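import Groth.Agent.H16Derived.QRep.Seq
import Groth.Agent.H11QMap.FTQ
import Groth.Agent.H10Coh.FinType2
import Groth.Agent.H10Coh.QCohOps
import Groth.Agent.H10Coh.Serre
import Groth.Agent.H16Derived.KFlat.PerfTri
import Groth.Agent.H16Derived.KFlat.PerfTilde
import Groth.Agent.H16Derived.KFlat.PerfCoh
import Groth.Agent.H16Derived.KFlat.PerfFlat
import Groth.Agent.H16Derived.TorTest.PerfAmpIn
import Groth.Agent.H16Derived.Dual.PerfQCoh

/-!
# Global resolutions of pseudo-coherent complexes of quasi-coherent modules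
-/

set_option autoImplicit false
set_option linter.style.haveILetI false
set_option backward.isDefEq.respectTransparency false

universe u

open CategoryTheory CategoryTheory.Limits AlgebraicGeometry HomologicalComplex CochainComplex TopologicalSpace

attribute [local instance] HasDerivedCategory.standard

namespace Groth.Agent.H16Derived.QRep

open Groth.Agent.H16Derived.KFlat Groth.Agent.H16Derived.KFlat.Stalk Groth.Agent.H16Derived.TorTest

variable {X : Scheme.{u}}

/-- An epimorphism onto a module of finite type is onto on a submodule of finite type. -/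
theorem exists_ft_sub_epi [CompactSpace X] [QuasiSeparatedSpace X] {G Y : X.Modules} (hG : Coh.IsQCoh G)
    (hY : Coh.IsQCoh Y) (hY' : CohB1.IsFT Y) (π : G ⟶ Y) [Epi π] :
    ∃ (H : X.Modules) (k : H ⟶ G), Coh.IsQCoh H ∧ CohB1.IsFT H ∧ Epi (k ≫ π) := by
  classical
  obtain ⟨T, hT, htop⟩ :=
    (isCompact_and_isOpen_iff_finite_and_eq_biUnion_affineOpens (U := (Set.univ : Set X))).mp
      ⟨isCompact_univ, isOpen_univ⟩
  haveI : G.IsQuasicoherent := hG
  haveI : Y.IsQuasicoherent := hY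
  have hgen : ∀ V : X.affineOpens, ∃ S : Finset Γ(G, V.1),
      Submodule.span Γ(X, V.1) (π.app V.1 '' (S : Set Γ(G, V.1))) = ⊤ := fun V => by
    haveI := H10Coh.finite_sections Y hY' V.2
    obtain ⟨S', hS'⟩ := (Module.Finite.fg_top : (⊤ : Submodule Γ(X, V.1) Γ(Y, V.1)).FG)
    choose g hg using fun y => H10Coh.surjective_app_of_epi π V.2 y
    refine ⟨S'.image g, ?_⟩
    rw [Finset.coe_image, ← Set.image_comp, show π.app V.1 ∘ g = id from funext hg, Set.image_id, hS']
  choose S hS using hgen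
  let l : List (Σ U : X.affineOpens, Γ(G, U.1)) :=
    hT.toFinset.toList.flatMap fun U => (S U).toList.map fun s => ⟨U, s⟩
  obtain ⟨H, hH, hHft, k, -, hk⟩ := H11QMap.exists_ft_submodule G hG l
  refine ⟨H, k, hH, hHft, ?_⟩
  haveI : H.IsQuasicoherent := hH
  refine H10Coh.epi_of_surjective_on_cover _ hY (fun V : T => V.1.1) (fun V => V.1.2) (fun x => ?_) ?_
  · obtain ⟨V, hV, hxV⟩ := Set.mem_iUnion₂.1 (htop.le (Set.mem_univ x))
    exact ⟨⟨V, hV⟩, hxV⟩
  · intro V
    refine ⟨_, hS V.1, ?_⟩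
    rintro σ ⟨s, hs, rfl⟩
    obtain ⟨a, ha⟩ := hk ⟨V.1, s⟩ (by
      simp only [l, List.mem_flatMap, List.mem_map, Finset.mem_toList, Set.Finite.mem_toFinset]
      exact ⟨V.1, V.2, s, hs, rfl⟩)
    exact ⟨a, congrArg (π.app V.1.1) ha⟩

theorem isQCoh_mappingCone {E F : CochainComplex X.Modules ℤ} (φ : E ⟶ F) (hE : ∀ i, Coh.IsQCoh (E.X i))
    (hF : ∀ i, Coh.IsQCoh (F.X i)) (i : ℤ) : Coh.IsQCoh ((mappingCone φ).X i) := by
  haveI : (E.X (i + 1)).IsQuasicoherent := hE _
  haveI : (F.X i).IsQuasicoherent := hF _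
  exact QCohD.isQCoh_iso (homotopyCofiber.XIsoBiprod φ i (i + 1) rfl).symm
    (H10Coh.isQuasicoherent_biprod (E.X (i + 1)) (F.X i))

theorem isQCoh_cycles' (C : CochainComplex X.Modules ℤ) (hC : ∀ i, Coh.IsQCoh (C.X i)) (i : ℤ) :
    Coh.IsQCoh (C.cycles i) := by
  haveI : (C.X i).IsQuasicoherent := hC i
  haveI : (C.X (i + 1)).IsQuasicoherent := hC (i + 1)
  exact QCohD.isQCoh_iso ((C.cyclesIsKernel i (i + 1) (by simp)).conePointUniqueUpToIso (kernelIsKernel (C.d i (i + 1)))).symm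
    (H10Coh.isQuasicoherent_kernel (C.d i (i + 1)))

theorem isQCoh_homology' (C : CochainComplex X.Modules ℤ) (hC : ∀ i, Coh.IsQCoh (C.X i)) (i : ℤ) :
    Coh.IsQCoh (C.homology i) := by
  haveI : (C.X (i - 1)).IsQuasicoherent := hC _
  haveI : (C.cycles i).IsQuasicoherent := isQCoh_cycles' C hC i
  exact QCohD.isQCoh_iso
    ((C.homologyIsCokernel (i - 1) i (by simp)).coconePointUniqueUpToIso (cokernelIsCokernel _)).symm
    (H10Coh.isQuasicoherent_cokernel (C.toCycles (i - 1) i))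

/-- The step is possible for classes of bundles covering modules of finite type. -/
theorem canStep [CompactSpace X] [QuasiSeparatedSpace X] {P : X.Modules → Prop}
    (hP : ∀ M, P M → FlatMod.IsFinLocFree M)
    (hcov : ∀ M : X.Modules, Coh.IsQCoh M → CohB1.IsFT M → ∃ (L : X.Modules) (π : L ⟶ M), P L ∧ Epi π)
    (F : CochainComplex X.Modules ℤ) (hFq : ∀ i, Coh.IsQCoh (F.X i))
    (hF : ∀ m, DCoh.IsPseudoCoherentD m (DCoh.toD X F)) (b₀ : ℤ) : CanStep P F b₀ := by
  intro E φ n _ h hE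
  haveI := h.ge
  haveI := hE
  have hEs : DCoh.IsStrictlyPerfect E := ⟨⟨n + 1, b₀, fun i hi => by
    rcases hi with hi | hi
    · exact E.isZero_of_isStrictlyGE (n + 1) i hi
    · exact E.isZero_of_isStrictlyLE b₀ i hi⟩, fun i => hP _ (h.mem i)⟩
  have hT := DerivedCategory.mappingCone_triangle_distinguished φ
  have hC : DCoh.IsPseudoCoherentD n (DCoh.toD X (mappingCone φ)) :=
    isPseudoCoherentD_obj₃ hT (isPseudoCoherentD_of_isPerfect (isPerfect_toD hEs) _) (hF n)
  have hφ : ∀ i, IsIso (homologyMap φ i) →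
      IsIso ((DerivedCategory.homologyFunctor X.Modules i).map (DerivedCategory.Q.map φ)) := fun i _ =>
    (NatIso.isIso_map_iff (DerivedCategory.homologyFunctorFactors X.Modules i) _).2 ‹_›
  have hφe : ∀ i, Epi (homologyMap φ i) →
      Epi ((DerivedCategory.homologyFunctor X.Modules i).map (DerivedCategory.Q.map φ)) := fun i he => by
    haveI := he
    have e : (DerivedCategory.homologyFunctor X.Modules i).map (DerivedCategory.Q.map φ) =
        (DerivedCategory.homologyFunctorFactors X.Modules i).hom.app E ≫ homologyMap φ i ≫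
          (DerivedCategory.homologyFunctorFactors X.Modules i).inv.app F :=
      ((Iso.eq_comp_inv ((DerivedCategory.homologyFunctorFactors X.Modules i).app F)).2
        ((DerivedCategory.homologyFunctorFactors X.Modules i).hom.naturality φ)).trans (Category.assoc _ _ _)
    rw [e]; infer_instance
  have hz : ∀ i, n < i → IsZero (DCoh.HD (DCoh.toD X (mappingCone φ)) i) := fun i hi => by
    haveI h1 : Epi ((DerivedCategory.homologyFunctor X.Modules i).map (DerivedCategory.Q.map φ)) := by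
      rcases lt_or_eq_of_le (show n + 1 ≤ i by omega) with h' | rfl
      · haveI := hφ i (h.iso i h'); infer_instance
      · exact hφe _ h.epi
    haveI h2 : IsIso ((DerivedCategory.homologyFunctor X.Modules (i + 1)).map (DerivedCategory.Q.map φ)) :=
      hφ _ (h.iso _ (by omega))
    have ex₂ := DerivedCategory.HomologySequence.exact₂ _ hT i
    have ex₃ := DerivedCategory.HomologySequence.exact₃ _ hT i (i + 1) rfl
    have ex₁ := DerivedCategory.HomologySequence.exact₁ _ hT i (i + 1) rfl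
    refine ex₃.isZero_of_both_zeros ?_ ?_
    · exact ex₂.epi_f_iff.1 h1
    · exact ex₁.mono_g_iff.1 (inferInstanceAs (Mono ((DerivedCategory.homologyFunctor X.Modules (i + 1)).map (DerivedCategory.Q.map φ))))
  have hft : CohB1.IsFT ((mappingCone φ).homology n) :=
    isFT_of_epi ((DerivedCategory.homologyFunctorFactors X.Modules n).app (mappingCone φ)).hom (isFT_HD_of_pc hC hz)
  have hEq : ∀ i, Coh.IsQCoh (E.X i) := fun i => H8Props.FinLocFree.isQCoh_of_isFinLocFree _ (hP _ (h.mem i))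
  have hcq := isQCoh_mappingCone φ hEq hFq
  obtain ⟨H, k, hH, hHft, hk⟩ := exists_ft_sub_epi (isQCoh_cycles' _ hcq n) (isQCoh_homology' _ hcq n) hft
    ((mappingCone φ).homologyπ n)
  obtain ⟨L, π, hL, hπ⟩ := hcov H hH hHft
  refine ⟨L, π ≫ k, hL, ?_⟩
  rw [Category.assoc]
  exact epi_comp _ _

/-- Perfect objects on quasi-compact schemes have a global amplitude. -/
theorem exists_hasPerfectAmplitudeIn [CompactSpace X] {K : DCoh.D X} (hK : DCoh.IsPerfect K) :
    ∃ a b : ℤ, a ≤ b ∧ KSix.HasPerfectAmplitudeIn a b K := by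
  classical
  choose V hV hE using hK
  let F₀ := DerivedCategory.Q.objPreimage K
  let e₀ : DCoh.toD X F₀ ≅ K := DerivedCategory.Q.objObjPreimageIso K
  choose E hEs hEiso using fun x => hE x F₀ ⟨e₀⟩
  choose l r hlr using fun x => (hEs x).1
  obtain ⟨t, ht⟩ := CompactSpace.elim_nhds_subcover (fun x => (V x : Set X))
    fun x => (V x).isOpen.mem_nhds (hV x)
  obtain ⟨a, ha⟩ := (t.image l).bddBelow
  obtain ⟨b, hb⟩ := (t.image r).bddAbove
  refine ⟨a, max a b, le_max_left _ _, fun y => ?_⟩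
  obtain ⟨x, hx, hxy⟩ := Set.mem_iUnion₂.1 (ht.ge (Set.mem_univ y))
  obtain ⟨θ⟩ := hEiso x
  refine ⟨V x, hxy, fun F ⟨eF⟩ => ⟨E x, fun i hi => hlr x i ?_, (hEs x).2,
    ⟨(rdQ (V x).ι).symm.app F ≪≫ (rd (V x).ι).mapIso (eF ≪≫ e₀.symm) ≪≫ (rdQ (V x).ι).app F₀ ≪≫ θ⟩⟩⟩
  have h1 := ha (Finset.mem_image_of_mem l hx)
  have h2 := hb (Finset.mem_image_of_mem r hx)
  omega

/-- Cutting a stage below the amplitude. -/
theorem exists_cut {F : CochainComplex X.Modules ℤ} {a b : ℤ} (hab : a ≤ b) [F.IsStrictlyGE a]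
    (hF : DerSch.HasTorAmplitude (𝟙 X) a b F)
    {P : CochainComplex X.Modules ℤ} (hP : DCoh.IsStrictlyPerfect P) (π : P ⟶ F)
    (hπ : ∀ i, a ≤ i → IsIso (homologyMap π i)) :
    ∃ β : P.truncGE a ⟶ F, QuasiIso β ∧ DCoh.IsStrictlyPerfect (P.truncGE a) := by
  obtain ⟨β, hβ, -⟩ := exists_factor_truncGE P a π hπ
  haveI := hβ
  haveI : IsIso (DerivedCategory.Q.map β) := isIso_Q_map _ hβ
  obtain ⟨⟨p, q, hpq⟩, hPf⟩ := hP
  let T := P.truncGE a
  refine ⟨β, hβ, isStrictlyPerfect_truncGE ⟨⟨p, q, hpq⟩, hPf⟩ a ?_⟩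
  refine isFinLocFree_of_isFP_flat (isFP_truncGE ⟨⟨p, q, hpq⟩, hPf⟩ a) fun x => ?_
  have hT := hasTorAmplitude_of_iso (asIso (DerivedCategory.Q.map β)).symm hF x
  have h3 : DRing.HasTorAmplitudeIn (X.presheaf.stalk x) a b (DRing.toD ((Sx x).obj T)) :=
    ta_of_bijective ((𝟙 X : X ⟶ X).stalkMap x).hom
      (ConcreteCategory.bijective_of_isIso ((𝟙 X : X ⟶ X).stalkMap x)) hT
  exact flat_bot_of_ta (W := (Sx x).obj T) (n := b) (C := max (max a q) b) (by omega)
    (fun i hi => (DerSch.stalkFunctor X x).map_isZero (by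
      rcases hi with hi | hi
      · exact T.isZero_of_isStrictlyGE a i hi
      · exact (hpq i (Or.inr (by omega))).of_iso (P.truncGEXIso a i (by omega))))
    (fun i hi => isFlat_of_isFinLocFree (isFinLocFree_of_iso (P.truncGEXIso a i hi).symm (hPf i)) x) h3

end Groth.Agent.H16Derived.QRep
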