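import Groth.Agent.H16Derived.QCohD.Equiv
import Groth.Agent.H16Derived.QCohD.Rpush
import Groth.Agent.H16Derived.Thomason.Adj
import Groth.Agent.H10Coh.AffineLeray
import Groth.Agent.H10Coh.AffCover

/-!
# Higher maps into direct images of injective modules over affine opens vanish
-/

set_option autoImplicit false
set_option linter.style.haveILetI false
set_option backward.isDefEq.respectTransparency false

universe u

open CategoryTheory CategoryTheory.Limits AlgebraicGeometry DerivedCategory DerivedCategory.TStructure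
  CategoryTheory.Pretriangulated

attribute [local instance] HasDerivedCategory.standard

namespace Groth.Agent.H16Derived.QRep

open Groth.Agent.H16Derived.KFlat Groth.Agent.H16Derived.KFlat.Stalk Groth.Agent.H16Derived.QCohD

variable {X S : Scheme.{u}}

theorem bound_one (f : X ⟶ S) [IsAffineHom f] : Bound f 1 := fun M hM _ p hp => by
  haveI : M.IsQuasicoherent := hM
  obtain ⟨n, rfl⟩ := Nat.exists_eq_succ_of_ne_zero (by omega : p ≠ 0)
  rw [IsZero.iff_id_eq_zero]
  exact (H10Coh.shF S).map_injective
    (((H10Coh.isZero_rpushAb_of_isAffineHom f M n).of_iso (H10Coh.nonempty_toAb_rpush f M _).some).eq_of_src _ _)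

theorem nonempty_rpush_single_iso (f : X ⟶ S) [IsAffineHom f] [DCoh.HasRpush f] {N : X.Modules}
    (hN : Coh.IsQCoh N) (a : ℤ) :
    Nonempty ((DCoh.Rpush f).obj ((singleFunctor X.Modules a).obj N) ≅
      (singleFunctor S.Modules a).obj ((Scheme.Modules.pushforward f).obj N)) := by
  haveI := hasInjectiveResolutions_modules (X := X)
  let K := (DCoh.Rpush f).obj ((singleFunctor X.Modules a).obj N)
  haveI : K.IsGE a := isGE_rpush f _ a
  haveI : K.IsLE a := by
    rw [DerivedCategory.isLE_iff]
    intro i hi
    obtain ⟨p, hp⟩ := Int.eq_ofNat_of_zero_le (show 0 ≤ i - a by omega)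
    exact (bound_one f N hN p (by omega)).of_iso (nonempty_hd_rpush_singleAt f N a i p (by omega)).some
  obtain ⟨A, ⟨e⟩⟩ := K.exists_iso_singleFunctor_obj_of_isGE_of_isLE a
  let eA : A ≅ (Scheme.Modules.pushforward f).obj N :=
    ((singleFunctorCompHomologyFunctorIso S.Modules a).app A).symm ≪≫
      (homologyFunctor S.Modules a).mapIso e.symm ≪≫ (nonempty_hd_rpush_singleAt f N a a 0 (by omega)).some ≪≫
      (Scheme.Modules.pushforward f).rightDerivedZeroIsoSelf.app N
  exact ⟨e ≪≫ (singleFunctor S.Modules a).mapIso eA⟩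

/-- Maps of negative degree into `N` from quasi-coherent modules vanish. -/
def Van (N : X.Modules) : Prop :=
  ∀ (M : X.Modules), Coh.IsQCoh M → ∀ m : ℤ, m < 0 →
    ∀ f : (singleFunctor X.Modules 0).obj M ⟶ (singleFunctor X.Modules m).obj N, f = 0

/-- Direct image along an affine open immersion. -/
theorem van_push {U : Scheme.{u}} (j : U ⟶ X) [IsOpenImmersion j] [IsAffineHom j] {N : U.Modules}
    (hN : Coh.IsQCoh N) (h : Van N) : Van ((Scheme.Modules.pushforward j).obj N) := fun M hM m hm f => by
  haveI := KFlat.GammaAcyclic.hasRpush j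
  obtain ⟨e⟩ := nonempty_rpush_single_iso j hN m
  let adj := Thomason.restrictRpushAdj j
  let R := Scheme.Modules.restrictFunctor j
  let eM : (rd j).obj ((singleFunctor X.Modules 0).obj M) ≅ (singleFunctor U.Modules 0).obj (R.obj M) :=
    (R.mapDerivedCategorySingleFunctor 0).app M
  have hM' : Coh.IsQCoh (R.obj M) :=
    haveI : M.IsQuasicoherent := hM
    Scheme.Modules.isQuasicoherent_restrictFunctor j M
  have hz : eM.inv ≫ (adj.homEquiv _ _).symm (f ≫ e.inv) = 0 := h _ hM' m hm _
  have hz' : (adj.homEquiv _ _).symm (f ≫ e.inv) = 0 := (cancel_epi eM.inv).1 (hz.trans comp_zero.symm)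
  haveI := adj.right_adjoint_additive
  have hz'' : f ≫ e.inv = 0 := by
    rw [← (adj.homEquiv _ _).apply_symm_apply (f ≫ e.inv), hz', adj.homEquiv_unit, Functor.map_zero, comp_zero]
  exact (cancel_mono e.inv).1 (hz''.trans zero_comp.symm)

/-- Injective modules on affine schemes. -/
theorem van_tilde {R : CommRingCat.{u}} (I : ModuleCat.{u} R) [Injective I] :
    Van ((tilde.functor R).obj I) := fun M hM m hm f => by
  haveI := (QCohD.full_faithful R).1
  haveI : M.IsQuasicoherent := hM
  haveI := Scheme.Modules.isIso_fromTildeΓ_of_isQuasicoherent (R := R) M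
  let N := (moduleSpecΓFunctor (R := R)).obj M
  let t := tilde.functor R
  let eM : (DCoh.tildeD R).obj ((singleFunctor (ModuleCat.{u} R) 0).obj N) ≅
      (singleFunctor (Spec R).Modules 0).obj M :=
    (t.mapDerivedCategorySingleFunctor 0).app N ≪≫ (singleFunctor (Spec R).Modules 0).mapIso (asIso M.fromTildeΓ)
  let eI : (DCoh.tildeD R).obj ((singleFunctor (ModuleCat.{u} R) m).obj I) ≅
      (singleFunctor (Spec R).Modules m).obj (t.obj I) :=
    (t.mapDerivedCategorySingleFunctor m).app I
  obtain ⟨g, hg⟩ := (DCoh.tildeD R).map_surjective (eM.hom ≫ f ≫ eI.inv)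
  have hg0 : g = 0 := by
    let cN := (CochainComplex.singleFunctor (ModuleCat.{u} R) 0).obj N
    let cI := (CochainComplex.singleFunctor (ModuleCat.{u} R) m).obj I
    haveI : cI.IsStrictlyGE m := inferInstanceAs (CochainComplex.IsStrictlyGE
      ((CochainComplex.singleFunctor (ModuleCat.{u} R) m).obj I) m)
    haveI : ∀ n, Injective (cI.X n) := fun n => by
      by_cases hn : n = m
      · subst hn
        exact Injective.of_iso (HomologicalComplex.singleObjXSelf (ComplexShape.up ℤ) n I).symm inferInstance
      · exact (HomologicalComplex.isZero_single_obj_X (ComplexShape.up ℤ) m I n hn).injective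
    haveI : cI.IsKInjective := CochainComplex.isKInjective_of_injective cI m
    let a := (singleFunctorIsoCompQ (ModuleCat.{u} R) 0).app N
    let b := (singleFunctorIsoCompQ (ModuleCat.{u} R) m).app I
    obtain ⟨φ, hφ⟩ := KInjRes.exists_Q_map_eq (K := cN) (I := cI) (a.inv ≫ g ≫ b.hom)
    have h0 : φ = 0 := HomologicalComplex.hom_ext _ _ fun n => by
      by_cases hn : n = 0
      · exact (HomologicalComplex.isZero_single_obj_X (ComplexShape.up ℤ) m I n (by omega)).eq_of_tgt _ _
      · exact (HomologicalComplex.isZero_single_obj_X (ComplexShape.up ℤ) 0 N n hn).eq_of_src _ _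
    rw [h0, Functor.map_zero] at hφ
    refine (cancel_epi a.inv).1 ((cancel_mono b.hom).1 ?_)
    rw [Category.assoc, comp_zero, zero_comp]
    exact hφ.symm
  rw [hg0, Functor.map_zero] at hg
  refine (cancel_epi eM.hom).1 ((cancel_mono eI.inv).1 ?_)
  rw [Category.assoc, comp_zero, zero_comp]
  exact hg.symm

/-- On an affine scheme every quasi-coherent module embeds in one with the vanishing property. -/
theorem exists_mono_van_affine {U : Scheme.{u}} [IsAffine U] {M : U.Modules} (hM : Coh.IsQCoh M) :
    ∃ (N : U.Modules) (i : M ⟶ N), Coh.IsQCoh N ∧ Van N ∧ Mono i := by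
  let e := U.isoSpec
  let M' := (Scheme.Modules.restrictFunctor e.inv).obj M
  haveI : M.IsQuasicoherent := hM
  haveI : M'.IsQuasicoherent := Scheme.Modules.isQuasicoherent_restrictFunctor e.inv M
  haveI := Scheme.Modules.isIso_fromTildeΓ_of_isQuasicoherent (R := Γ(U, ⊤)) M'
  let P : InjectivePresentation ((moduleSpecΓFunctor (R := Γ(U, ⊤))).obj M') := Classical.arbitrary _
  let t := tilde.functor Γ(U, ⊤)
  let a : M' ⟶ t.obj P.J := inv M'.fromTildeΓ ≫ t.map P.f
  haveI : Mono (t.map P.f) := inferInstance
  haveI : Mono a := mono_comp _ _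
  haveI : Mono ((Scheme.Modules.pushforward e.inv).map a) :=
    haveI : (Scheme.Modules.pushforward e.inv).IsRightAdjoint := (Scheme.Modules.restrictAdjunction e.inv).isRightAdjoint
    inferInstance
  haveI : IsIso ((Scheme.Modules.restrictAdjunction e.inv).unit.app M) := by
    haveI : IsIso e.inv := inferInstance
    rw [Scheme.Modules.Hom.isIso_iff_isIso_app]
    intro W
    rw [Scheme.Modules.restrictAdjunction_unit_app_app]
    exact MVPush.isIso_res M _ (by simp [← Scheme.Hom.comp_preimage])
  haveI : P.J |> Injective := P.injective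
  have hq : Coh.IsQCoh (t.obj P.J) := (inferInstance : (tilde P.J).IsQuasicoherent)
  exact ⟨_, (Scheme.Modules.restrictAdjunction e.inv).unit.app M ≫ (Scheme.Modules.pushforward e.inv).map a,
    @H10Coh.isQuasicoherent_pushforward_of_isAffineHom _ _ e.inv _ _ hq,
    van_push e.inv hq (van_tilde P.J), mono_comp _ _⟩

/-- A quasi-coherent module embeds in a sum of modules with the vanishing property. -/
theorem exists_mono_van [CompactSpace X]
    (hd : ∀ U V : X.Opens, IsAffineOpen U → IsAffineOpen V → IsAffineOpen (U ⊓ V))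
    {M : X.Modules} (hM : Coh.IsQCoh M) :
    ∃ (n : ℕ) (N : Fin n → X.Modules) (i : M ⟶ ⨁ N), (∀ k, Coh.IsQCoh (N k)) ∧ (∀ k, Van (N k)) ∧ Mono i := by
  obtain ⟨C⟩ := H10Coh.nonempty_sCov hd
  haveI : M.IsQuasicoherent := hM
  choose N i hq hv hi using fun k : Fin C.n =>
    haveI : IsAffine (C.U k) := C.aff k
    exists_mono_van_affine (Scheme.Modules.isQuasicoherent_restrictFunctor (C.U k).ι M :
      Coh.IsQCoh (M.restrict (C.U k).ι))
  haveI := C.isAffineHom_ι
  haveI : ∀ k, Mono ((Scheme.Modules.pushforward (C.U k).ι).map (i k)) := fun k =>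
    haveI : (Scheme.Modules.pushforward (C.U k).ι).IsRightAdjoint :=
      (Scheme.Modules.restrictAdjunction (C.U k).ι).isRightAdjoint
    haveI := hi k
    inferInstance
  haveI := C.mono_emb M
  exact ⟨C.n, fun k => (Scheme.Modules.pushforward (C.U k).ι).obj (N k),
    C.emb M ≫ biproduct.map fun k => (Scheme.Modules.pushforward (C.U k).ι).map (i k),
    fun k => @H10Coh.isQuasicoherent_pushforward_of_isAffineHom _ _ (C.U k).ι _ _ (hq k),
    fun k => van_push _ (hq k) (hv k), mono_comp _ _⟩

end Groth.Agent.H16Derived.QRep
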