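import Groth.Agent.H16Derived.QCohD.HomVanish
import Groth.Agent.H16Derived.H0Split.Affine
import Groth.Agent.H16Derived.Thomason.Glue

/-!
# Uniform vanishing of high maps out of finite locally free modules
-/

set_option autoImplicit false
set_option linter.style.haveILetI false
set_option backward.isDefEq.respectTransparency false

universe u

open CategoryTheory CategoryTheory.Limits CategoryTheory.Pretriangulated AlgebraicGeometry
open DerivedCategory DerivedCategory.TStructure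

attribute [local instance] HasDerivedCategory.standard

namespace Groth.Agent.H16Derived.QRep.ExtVanish

open Groth.Agent.H16Derived.KFlat Groth.Agent.H16Derived.KFlat.Stalk Groth.Agent.H16Derived.QCohD

variable {X : Scheme.{u}}

/-- Maps out of the cuts at `W` of all bundles into objects below `c` vanish. -/
def UVan (W : X.Opens) : Prop :=
  ∃ c : ℤ, ∀ (F : X.Modules), FlatMod.IsFinLocFree F → ∀ (L : DCoh.D X), DCoh.IsQCohD L →
    ∀ b : ℤ, b < c → L.IsLE b → ∀ φ : cut W ((singleFunctor X.Modules 0).obj F) ⟶ L, φ = 0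

theorem uVan_affine {W : X.Opens} (hW : IsAffineOpen W) : UVan W := by
  refine ⟨0, fun F hF L hL b hb hLE φ => ?_⟩
  haveI := preservesFiniteLimits_extZero W
  haveI : IsAffine (W : Scheme.{u}) := hW
  let adj := Thomason.extZeroRdAdj W
  let R := Scheme.Modules.restrictFunctor W.ι
  let F' := R.obj F
  let L' := (rd W.ι).obj L
  let e : (rd W.ι).obj ((singleFunctor X.Modules 0).obj F) ≅ (singleFunctor (W : Scheme.{u}).Modules 0).obj F' :=
    (R.mapDerivedCategorySingleFunctor 0).app F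
  suffices h : ∀ ψ : (singleFunctor (W : Scheme.{u}).Modules 0).obj F' ⟶ L', ψ = 0 by
    refine (adj.homEquiv _ _).injective ?_
    have h0 : ∀ α : (rd W.ι).obj ((singleFunctor X.Modules 0).obj F) ⟶ L', α = 0 := fun α =>
      (cancel_epi e.inv).1 ((h _).trans comp_zero.symm)
    exact (h0 _).trans (h0 _).symm
  intro ψ
  haveI : t.IsLE L b := hLE
  haveI hL' : t.IsLE L' b := isLE_rd W.ι L b
  haveI : t.IsLE (L'⟦(-1 : ℤ)⟧) (b + 1) := t.isLE_shift L' b (-1) (b + 1)
  haveI : t.IsLE (L'⟦(-1 : ℤ)⟧) 0 := t.isLE_of_le _ (b + 1) 0 (by omega)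
  let G := (CochainComplex.singleFunctor (W : Scheme.{u}).Modules 1).obj F'
  let eG : DCoh.toD _ G ≅ ((singleFunctor (W : Scheme.{u}).Modules 0).obj F')⟦(-1 : ℤ)⟧ :=
    ((singleFunctorIsoCompQ (W : Scheme.{u}).Modules 1).app F').symm ≪≫
      (((singleFunctors (W : Scheme.{u}).Modules).shiftIso (-1) 1 0 (by omega)).app F').symm
  have hF' : FlatMod.IsFinLocFree F' :=
    isFinLocFree_of_iso ((Scheme.Modules.restrictFunctorIsoPullback W.ι).app F).symm (isFinLocFree_pullback W.ι hF)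
  have hz : ∀ i : ℤ, i ≠ 1 → IsZero (G.X i) := fun i hi =>
    HomologicalComplex.isZero_single_obj_X (ComplexShape.up ℤ) 1 F' i hi
  have hGf : ∀ i, FlatMod.IsFinLocFree (G.X i) := fun i => by
    by_cases hi : i = 1
    · subst hi
      exact isFinLocFree_of_iso (HomologicalComplex.singleObjXSelf (ComplexShape.up ℤ) 1 F').symm hF'
    · exact isFinLocFree_of_isZero (hz i hi)
  have hv : DCoh.VanishesOutside G 1 1 := fun i hi => hz i (by omega)
  have h := H0Split.hom_eq_zero_affine (isPerfect_toD ⟨⟨1, 1, hv⟩, hGf⟩) le_rfl G (Iso.refl _)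
    (TorTest.hasTorAmplitude_of_flat (𝟙 _) hv fun j => isFlatOver_id (isFlat_of_isFinLocFree (hGf j)))
    (HomVanish.isQCohD_shift (QCohD.isQCohD_rd W.ι hL) (-1)) (eG.hom ≫ ψ⟦(-1 : ℤ)⟧')
  refine (shiftFunctor (DCoh.D (W : Scheme.{u})) (-1 : ℤ)).map_injective ?_
  rw [Functor.map_zero]
  exact (cancel_epi eG.hom).1 (h.trans comp_zero.symm)

theorem uVan_sup {U V : X.Opens} (hU : UVan U) (hV : UVan V) (hUV : UVan (U ⊓ V)) : UVan (U ⊔ V) := by
  obtain ⟨c₁, h₁⟩ := hU
  obtain ⟨c₂, h₂⟩ := hV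
  obtain ⟨c₃, h₃⟩ := hUV
  refine ⟨min (min c₁ c₂) (c₃ - 1), fun F hF L hL b hb hLE φ => ?_⟩
  haveI : t.IsLE L b := hLE
  obtain ⟨a, g, w, hT⟩ := MV.exists_triangle_sup U V ((singleFunctor X.Modules 0).obj F)
  have h12 : g ≫ φ = 0 := by
    refine biprod.hom_ext' _ _ ?_ ?_
    · rw [comp_zero]; exact h₁ F hF L hL b (by omega) hLE _
    · rw [comp_zero]; exact h₂ F hF L hL b (by omega) hLE _
  obtain ⟨ψ, hψ⟩ := Triangle.yoneda_exact₃ _ hT φ h12
  have hsh : t.IsLE (L⟦(-1 : ℤ)⟧) (b + 1) := t.isLE_shift L b (-1) (b + 1)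
  let e := (shiftEquiv (DCoh.D X) (1 : ℤ)).toAdjunction.homEquiv (cut (U ⊓ V) ((singleFunctor X.Modules 0).obj F)) L
  have hψ0 : ψ = 0 := e.injective
    ((h₃ F hF _ (HomVanish.isQCohD_shift hL (-1)) (b + 1) (by omega) hsh (e ψ)).trans
      (h₃ F hF _ (HomVanish.isQCohD_shift hL (-1)) (b + 1) (by omega) hsh (e 0)).symm)
  rw [hψ, hψ0]
  exact comp_zero

theorem exists_bound [CompactSpace X] [QuasiSeparatedSpace X] :
    ∃ c : ℤ, ∀ (F : X.Modules), FlatMod.IsFinLocFree F → ∀ (L : DCoh.D X), DCoh.IsQCohD L →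
      ∀ b : ℤ, b < c → L.IsLE b → ∀ φ : (singleFunctor X.Modules 0).obj F ⟶ L, φ = 0 := by
  obtain ⟨c, hc⟩ := H10Coh.qcqs_induction (X := X) UVan (fun U hU => uVan_affine hU)
    (fun U V _ _ hU hV hUV => uVan_sup hU hV hUV) ⊤ isCompact_univ
  refine ⟨c, fun F hF L hL b hb hLE φ => ?_⟩
  obtain ⟨e⟩ := nonempty_cut_top ((singleFunctor X.Modules 0).obj F)
  exact (cancel_epi e.hom).1 ((hc F hF L hL b hb hLE _).trans comp_zero.symm)

end Groth.Agent.H16Derived.QRep.ExtVanish
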