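import Groth.Agent.H15Site.BddDevissage
import Mathlib.Algebra.Homology.DerivedCategory.Ext.MapBijective

/-!
# Full faithfulness on bounded objects from acyclicity of the images of injectives
-/

set_option autoImplicit false
set_option linter.style.haveILetI false
set_option backward.isDefEq.respectTransparency false

open CategoryTheory CategoryTheory.Limits CategoryTheory.Pretriangulated CategoryTheory.Abelian DerivedCategory
open DerivedCategory.TStructure

namespace Groth.Agent.H16Derived.QRep

universe w w' v v' u u'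

variable {C : Type u} [Category.{v} C] [Abelian C] {D : Type u'} [Category.{v'} D] [Abelian D]
  (F : C ⥤ D) [F.Additive] [PreservesFiniteLimits F] [PreservesFiniteColimits F]

attribute [local simp] Ext.mapExactFunctor_comp Ext.mapExactFunctor_mk₀ Ext.mapExactFunctor_extClass

/-- `F` is bijective on `Ext` when it sends injectives to objects without higher `Ext` from images. -/
theorem mapExt_bijective [F.Full] [F.Faithful] [HasExt.{w} C] [HasExt.{w'} D] [EnoughInjectives C]
    (h : ∀ (X I : C), Injective I → ∀ n : ℕ, Subsingleton (Ext.{w'} (F.obj X) (F.obj I) (n + 1)))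
    (X Y : C) (n : ℕ) : Function.Bijective (F.mapExtAddHom X Y n) := by
  induction n generalizing Y with
  | zero => simpa [Ext.mapExactFunctor₀] using ⟨Functor.Faithful.map_injective, Functor.Full.map_surjective⟩
  | succ n hn =>
    let I : InjectivePresentation Y := Classical.arbitrary _
    let S := ShortComplex.mk _ _ (cokernel.condition I.f)
    have hI : Injective S.X₂ := I.injective
    haveI : Subsingleton (Ext.{w'} (F.obj X) (S.map F).X₂ (n + 1)) := h X S.X₂ hI n
    haveI : Subsingleton (Ext.{w} X S.X₂ (n + 1)) := Ext.subsingleton_of_injective X S.X₂ n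
    have hS : S.ShortExact := { exact := ShortComplex.exact_cokernel I.f }
    exact AddMonoidHom.bijective_of_surjective_of_bijective_of_right_exact _ _ _ _
      (F.mapExtAddHom X S.X₂ n) (F.mapExtAddHom X S.X₃ n) (F.mapExtAddHom X S.X₁ (n + 1))
      (by cat_disch) (by cat_disch)
      ((ShortComplex.ab_exact_iff_function_exact _).mp
        (Ext.covariant_sequence_exact₃' X hS n (n + 1) rfl))
      ((ShortComplex.ab_exact_iff_function_exact _).mp
        (Ext.covariant_sequence_exact₃' (F.obj X) (hS.map F) n (n + 1) rfl))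
      (hn _).surjective (hn _)
      (fun x₁ ↦ Ext.covariant_sequence_exact₁ _ hS x₁ (Subsingleton.elim _ _) rfl)
      (fun y₁ ↦ Ext.covariant_sequence_exact₁ _ (hS.map F) y₁ (Subsingleton.elim _ _) rfl)

variable [HasDerivedCategory.{w} C] [HasDerivedCategory.{w'} D]

theorem conj_cancel {E : Type*} [Category E] {A A' B B' B'' : E} (a : A ≅ A') (x : A ⟶ B) (c : B ≅ B') (s : B' ≅ B'') :
    a.hom ≫ (a.inv ≫ (x ≫ c.hom) ≫ s.hom) ≫ (c ≪≫ s).inv = x := by
  simp

/-- The hypothesis on injectives, in the derived category. -/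
def AcyclicInj : Prop :=
  ∀ (X I : C), Injective I → ∀ q : ℕ,
    ∀ f : (singleFunctor D 0).obj (F.obj X) ⟶ ((singleFunctor D 0).obj (F.obj I))⟦((q + 1 : ℕ) : ℤ)⟧, f = 0

variable {F}

theorem bij_single [F.Full] [F.Faithful] [EnoughInjectives C] (h : AcyclicInj F) (X Y : C) :
    H15Site.TriFF.Bij F.mapDerivedCategory ((singleFunctor C 0).obj X) ((singleFunctor C 0).obj Y) := by
  letI : HasExt.{max u v} C := HasExt.standard C
  letI : HasExt.{max u' v'} D := HasExt.standard D
  have hext := mapExt_bijective F (fun X I hI q =>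
    haveI : Subsingleton ((singleFunctor D 0).obj (F.obj X) ⟶
        ((singleFunctor D 0).obj (F.obj I))⟦((q + 1 : ℕ) : ℤ)⟧) :=
      ⟨fun a b => (h X I hI q a).trans (h X I hI q b).symm⟩
    Ext.homEquiv.subsingleton) X Y
  intro m
  rcases lt_or_ge m 0 with hm | hm
  · have z : ∀ {A : Type _} [Category A] [Abelian A] [HasDerivedCategory A] (M N : A)
        (f : (singleFunctor A 0).obj M ⟶ ((singleFunctor A 0).obj N)⟦m⟧), f = 0 := by
      intro A _ _ _ M N f
      haveI : t.IsGE (((singleFunctor A 0).obj N)⟦m⟧) (-m) :=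
        t.isGE_shift ((singleFunctor A 0).obj N) 0 m (-m)
      exact t.zero f 0 (-m) (by omega)
    constructor
    · intro a b _
      exact (z X Y a).trans (z X Y b).symm
    · intro y
      refine ⟨0, ?_⟩
      haveI : t.IsGE (F.mapDerivedCategory.obj (((singleFunctor C 0).obj Y)⟦m⟧)) (-m) := by
        haveI : t.IsGE ((shiftFunctor (DerivedCategory D) m).obj ((F ⋙ singleFunctor D 0).obj Y)) (-m) :=
          t.isGE_shift ((singleFunctor D 0).obj (F.obj Y)) 0 m (-m)
        exact t.isGE_of_iso ((F.mapDerivedCategory.commShiftIso m).app _ ≪≫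
          (shiftFunctor _ m).mapIso ((F.mapDerivedCategorySingleFunctor 0).app Y)).symm (-m)
      haveI : t.IsLE ((F ⋙ singleFunctor D 0).obj X) 0 :=
        inferInstanceAs (t.IsLE ((singleFunctor D 0).obj (F.obj X)) 0)
      haveI : t.IsLE (F.mapDerivedCategory.obj ((singleFunctor C 0).obj X)) 0 :=
        t.isLE_of_iso ((F.mapDerivedCategorySingleFunctor 0).app X).symm 0
      exact (F.mapDerivedCategory.map_zero _ _).trans (t.zero y 0 (-m) (by omega)).symm
  · obtain ⟨n, rfl⟩ := Int.eq_ofNat_of_zero_le hm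
    let eX := (F.mapDerivedCategorySingleFunctor 0).app X
    let eY : F.mapDerivedCategory.obj (((singleFunctor C 0).obj Y)⟦(n : ℤ)⟧) ≅
        ((singleFunctor D 0).obj (F.obj Y))⟦(n : ℤ)⟧ :=
      (F.mapDerivedCategory.commShiftIso (n : ℤ)).app _ ≪≫
        (shiftFunctor _ (n : ℤ)).mapIso ((F.mapDerivedCategorySingleFunctor 0).app Y)
    have h2 := ((eX.homCongr eY).symm.bijective.comp
      ((Ext.homEquiv (X := F.obj X) (Y := F.obj Y) (n := n)).bijective.comp
        ((hext n).comp (Ext.homEquiv (X := X) (Y := Y) (n := n)).symm.bijective)))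
    refine Eq.mp (congrArg Function.Bijective (funext fun g => ?_)) h2
    have h3 := Ext.mapExactFunctor_hom F ((Ext.homEquiv (X := X) (Y := Y) (n := n)).symm g)
    refine (congrArg (fun t => eX.hom ≫ t ≫ eY.inv) h3).trans ?_
    have h4 : ((Ext.homEquiv (X := X) (Y := Y) (n := n)).symm g).hom = g :=
      (Ext.homEquiv (X := X) (Y := Y) (n := n)).apply_symm_apply g
    rw [h4]
    exact conj_cancel eX (F.mapDerivedCategory.map g) ((F.mapDerivedCategory.commShiftIso (n : ℤ)).app _)
      ((shiftFunctor _ (n : ℤ)).mapIso ((F.mapDerivedCategorySingleFunctor 0).app Y))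

omit [F.Additive] in
theorem cohInBdd_top (M : DerivedCategory C) (a b : ℤ) [M.IsGE a] [M.IsLE b] :
    WSerre.cohInBdd (⊤ : ObjectProperty C) M :=
  ⟨fun _ => trivial, ⟨a, inferInstance⟩, ⟨b, inferInstance⟩⟩

theorem surjective_bounded [F.Full] [F.Faithful] [EnoughInjectives C] (h : AcyclicInj F)
    (M N : DerivedCategory C) (a b : ℤ) (_ : M.IsGE a) (_ : M.IsLE b) (_ : N.IsGE a) (_ : N.IsLE b) :
    Function.Surjective (fun φ : M ⟶ N => F.mapDerivedCategory.map φ) :=
  ((H15Site.TriFF.map_bijective_of_iso (Iso.refl M) ((shiftFunctorZero (DerivedCategory C) ℤ).app N))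
    (H15Site.BddDevissage.bij_of_cohInBdd (⊤ : ObjectProperty C) F.mapDerivedCategory
      (fun X Y _ _ => bij_single h X Y) (cohInBdd_top M a b) (cohInBdd_top N a b) 0)).2

end Groth.Agent.H16Derived.QRep
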