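import Groth.Agent.H16Derived.QRep.RelGen
import Groth.Agent.H16Derived.QRep.Cover
import Groth.Agent.H16Derived.QCohD.Equiv
import Groth.Agent.H16Derived.QCohD.RpushUnb
import Groth.Agent.H16Derived.Thomason.Adj
import Groth.Agent.H16Derived.Thomason.Approx
import Groth.Agent.H16Derived.BaseChange.FinitePC
import Groth.Agent.H16Derived.AcyclicLES
import Groth.Agent.H16Derived.KFlat.StrictPerfCone
import Groth.Agent.H11Tilde.TwistQuot
import Groth.Agent.H11Tilde.TwistPow
import Groth.Agent.H22Alg.KModel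

/-!
# Pseudo-coherent objects on quasi-compact opens of affine schemes extend to free complexes
-/

set_option autoImplicit false
set_option linter.style.haveILetI false
set_option backward.isDefEq.respectTransparency false

universe u

open CategoryTheory CategoryTheory.Limits AlgebraicGeometry HomologicalComplex CochainComplex TopologicalSpace

attribute [local instance] HasDerivedCategory.standard

namespace Groth.Agent.H16Derived.QRep

open Groth.Agent.H16Derived.KFlat Groth.Agent.H16Derived.KFlat.Stalk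

variable {X : Scheme.{u}}

/-- Objects with quasi-coherent cohomology on an affine scheme are complexes of quasi-coherent modules. -/
theorem exists_qcoh_rep_affine [IsAffine X] (K : DCoh.D X) (hK : DCoh.IsQCohD K) :
    ∃ C : CochainComplex X.Modules ℤ, (∀ i, Coh.IsQCoh (C.X i)) ∧ Nonempty (DCoh.toD X C ≅ K) := by
  let R := Γ(X, ⊤)
  obtain ⟨M, ⟨eM⟩⟩ := QCohD.exists_tildeD_iso R (K := (rd X.isoSpec.inv).obj K) (QCohD.isQCohD_rd _ hK)
  let N := DerivedCategory.Q.objPreimage M
  let eN : DerivedCategory.Q.obj N ≅ M := DerivedCategory.Q.objObjPreimageIso M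
  let T := (QCohD.tCx R).obj N
  let r := Scheme.Modules.restrictFunctor X.isoSpec.hom
  let K₀ := DerivedCategory.Q.objPreimage K
  let eK : DerivedCategory.Q.obj K₀ ≅ K := DerivedCategory.Q.objObjPreimageIso K
  let w : (rd X.isoSpec.hom).obj ((rd X.isoSpec.inv).obj K) ≅ K :=
    (rdComp X.isoSpec.hom X.isoSpec.inv (𝟙 X) X.isoSpec.hom_inv_id K).symm ≪≫
      (rd (𝟙 X)).mapIso eK.symm ≪≫ (rdQ (𝟙 X)).app K₀ ≪≫
      DerivedCategory.Q.mapIso (HomologicalComplex.Hom.isoOfComponents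
        (fun i => (Scheme.Modules.restrictFunctorId (X := X)).app (K₀.X i))
        (fun i j _ => ((Scheme.Modules.restrictFunctorId (X := X)).hom.naturality (K₀.d i j)).symm)) ≪≫ eK
  refine ⟨(r.mapHomologicalComplex (ComplexShape.up ℤ)).obj T, fun i => ?_,
    ⟨(rdQ X.isoSpec.hom).symm.app T ≪≫ (rd X.isoSpec.hom).mapIso
      (((tilde.functor R).mapDerivedCategoryFactors.app N).symm ≪≫ (DCoh.tildeD R).mapIso eN ≪≫ eM) ≪≫ w⟩⟩
  haveI : (T.X i).IsQuasicoherent := QCohD.isQCoh_tilde_X R N i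
  exact Scheme.Modules.isQuasicoherent_restrictFunctor _ _

/-- A module of finite type on an affine scheme is a quotient of a finite free one. -/
theorem exists_free_epi_affine [IsAffine X] {M : X.Modules} (hM : Coh.IsQCoh M) (hM' : CohB1.IsFT M) :
    ∃ (n : ℕ) (p : FlatMod.freeMod X n ⟶ M), Epi p := by
  haveI : M.IsQuasicoherent := hM
  haveI := H10Coh.finite_sections M hM' (isAffineOpen_top X)
  obtain ⟨S, hS⟩ := (Module.Finite.fg_top : (⊤ : Submodule Γ(X, ⊤) Γ(M, ⊤)).FG)
  let g : Fin S.card → Γ(M, ⊤) := fun j => (S.equivFin.symm j).1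
  refine ⟨S.card, Sigma.desc fun j => H11Tilde.homOfGlobal M (g j), ?_⟩
  refine H10Coh.epi_of_surjective_on_cover _ hM (fun _ : Unit => (⊤ : X.Opens)) (fun _ => isAffineOpen_top X)
    (fun x => ⟨(), trivial⟩) fun _ => ⟨(S : Set Γ(M, ⊤)), hS, fun σ hσ => ?_⟩
  let j := S.equivFin ⟨σ, hσ⟩
  refine ⟨(Sigma.ι (fun _ : Fin S.card => Coh.structureModule X) j).app ⊤ (H11Ample.one ⊤), ?_⟩
  refine (congr($(congrArg (fun k => Scheme.Modules.Hom.app k ⊤)
    (Sigma.ι_desc (fun j => H11Tilde.homOfGlobal M (g j)) j)) (H11Ample.one ⊤))).trans ?_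
  change (1 : Γ(X, ⊤)) • M.presheaf.map (homOfLE (le_top : (⊤ : X.Opens) ≤ ⊤)).op (g j) = _
  rw [one_smul, show g j = σ by simp [g, j]]
  exact congr($(M.presheaf.map_id _) σ)

variable (U : X.Opens)

/-- An epimorphism over an open onto a module of finite type there is onto on a submodule of finite type. -/
theorem exists_ft_sub_epi_res [CompactSpace X] [QuasiSeparatedSpace X] (hU : IsCompact (U : Set X))
    {G Y : X.Modules} (hG : Coh.IsQCoh G) (hY : Coh.IsQCoh Y)
    (hY' : CohB1.IsFT ((Scheme.Modules.restrictFunctor U.ι).obj Y)) (π : G ⟶ Y) [Epi π] :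
    ∃ (H : X.Modules) (k : H ⟶ G), Coh.IsQCoh H ∧ CohB1.IsFT H ∧
      Epi ((Scheme.Modules.restrictFunctor U.ι).map (k ≫ π)) := by
  classical
  let R := Scheme.Modules.restrictFunctor U.ι
  haveI : CompactSpace (U : Scheme.{u}) := isCompact_iff_compactSpace.1 hU
  obtain ⟨T, hT, htop⟩ :=
    (isCompact_and_isOpen_iff_finite_and_eq_biUnion_affineOpens (U := (Set.univ : Set (U : Scheme.{u})))).mp
      ⟨isCompact_univ, isOpen_univ⟩
  haveI : G.IsQuasicoherent := hG
  haveI : Y.IsQuasicoherent := hY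
  haveI hRY : (R.obj Y).IsQuasicoherent := Scheme.Modules.isQuasicoherent_restrictFunctor U.ι Y
  haveI : (R.obj G).IsQuasicoherent := Scheme.Modules.isQuasicoherent_restrictFunctor U.ι G
  haveI : Epi (R.map π) := inferInstance
  have hgen : ∀ V : (U : Scheme.{u}).affineOpens, ∃ S : Finset Γ(R.obj G, V.1),
      Submodule.span Γ((U : Scheme.{u}), V.1) ((R.map π).app V.1 '' (S : Set Γ(R.obj G, V.1))) = ⊤ := fun V => by
    haveI := H10Coh.finite_sections (R.obj Y) hY' V.2
    obtain ⟨S', hS'⟩ := (Module.Finite.fg_top : (⊤ : Submodule Γ((U : Scheme.{u}), V.1) Γ(R.obj Y, V.1)).FG)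
    choose g hg using fun y => H10Coh.surjective_app_of_epi (R.map π) V.2 y
    refine ⟨S'.image g, ?_⟩
    rw [Finset.coe_image, ← Set.image_comp, show (R.map π).app V.1 ∘ g = id from funext hg, Set.image_id, hS']
  choose S hS using hgen
  let im : (U : Scheme.{u}).affineOpens → X.affineOpens := fun V => ⟨U.ι ''ᵁ V.1, V.2.image_of_isOpenImmersion U.ι⟩
  let l : List (Σ O : X.affineOpens, Γ(G, O.1)) :=
    hT.toFinset.toList.flatMap fun V => (S V).toList.map fun s => ⟨im V, s⟩
  obtain ⟨H, hH, hHft, k, -, hk⟩ := H11QMap.exists_ft_submodule G hG l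
  refine ⟨H, k, hH, hHft, ?_⟩
  haveI : H.IsQuasicoherent := hH
  haveI : (R.obj H).IsQuasicoherent := Scheme.Modules.isQuasicoherent_restrictFunctor U.ι H
  refine H10Coh.epi_of_surjective_on_cover _ hRY (fun V : T => V.1.1) (fun V => V.1.2) (fun x => ?_) ?_
  · obtain ⟨V, hV, hxV⟩ := Set.mem_iUnion₂.1 (htop.le (Set.mem_univ x))
    exact ⟨⟨V, hV⟩, hxV⟩
  · intro V
    refine ⟨_, hS V.1, ?_⟩
    rintro σ ⟨s, hs, rfl⟩
    obtain ⟨a, ha⟩ := hk ⟨im V.1, s⟩ (by
      simp only [l, List.mem_flatMap, List.mem_map, Finset.mem_toList, Set.Finite.mem_toFinset]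
      exact ⟨V.1, V.2, s, hs, rfl⟩)
    exact ⟨a, congrArg (π.app (im V.1).1) ha⟩

theorem isZero_obj_cokernel {A B : Type*} [Category A] [Category B] [Abelian A] [Abelian B] (F : A ⥤ B)
    [F.Additive] [PreservesFiniteColimits F] {M N : A} (f : M ⟶ N) [Epi (F.map f)] : IsZero (F.obj (cokernel f)) := by
  have h : F.map (cokernel.π f) = 0 := by
    rw [← cancel_epi (F.map f), ← F.map_comp, cokernel.condition, F.map_zero, comp_zero]
  rw [IsZero.iff_id_eq_zero, ← cancel_epi (F.map (cokernel.π f)), h, comp_zero, zero_comp]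

/-- A free module. -/
def IsFreeMod (M : X.Modules) : Prop := ∃ n : ℕ, Nonempty (M ≅ FlatMod.freeMod X n)

/-- The extension by a complex of finite free modules. -/
theorem exists_free_extension [IsAffine X] (hU : IsCompact (U : Set X))
    (E : DCoh.D (U : Scheme.{u})) (hE : ∀ m : ℤ, DCoh.IsPseudoCoherentD m E) :
    ∃ (G : CochainComplex X.Modules ℤ) (b : ℤ), (∀ i : ℤ, b < i → IsZero (G.X i)) ∧
      (∀ i : ℤ, IsFreeMod (G.X i)) ∧
      Nonempty (DerivedCategory.Q.obj ((DCoh.restrictCx U).obj G) ≅ E) := by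
  let R := Scheme.Modules.restrictFunctor U.ι
  let Φ := DCoh.restrictCx U
  haveI : CompactSpace (U : Scheme.{u}) := isCompact_iff_compactSpace.1 hU
  haveI : AlgebraicGeometry.QuasiCompact U.ι := (HasAffineProperty.iff_of_isAffine (P := @AlgebraicGeometry.QuasiCompact)).mpr inferInstance
  haveI := KFlat.GammaAcyclic.hasRpush U.ι
  obtain ⟨N, hNq, ⟨eN⟩⟩ := exists_qcoh_rep_affine ((DCoh.Rpush U.ι).obj E)
    (QCohD.isQCohD_rpush U.ι (BaseChange.isQCohD_of_pc hE))
  haveI := Thomason.isIso_restrictRpushAdj_counit U.ι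
  let eE : DCoh.toD _ (Φ.obj N) ≅ E :=
    ((rdQ U.ι).symm.app N) ≪≫ (rd U.ι).mapIso eN ≪≫ asIso ((Thomason.restrictRpushAdj U.ι).counit.app E)
  obtain ⟨b, hb⟩ := Thomason.exists_isLE_of_pc (hE 0)
  haveI := hb
  let hI : ∀ (C : CochainComplex X.Modules ℤ) (i : ℤ), (Φ.obj C).homology i ≅ R.obj (C.homology i) :=
    fun C i => (C.sc i).mapHomologyIso R
  have hF : ∀ i, b < i → IsZero (R.obj (N.homology i)) := fun i hi => by
    haveI : (DCoh.toD _ (Φ.obj N)).IsLE b := DerivedCategory.TStructure.t.isLE_of_iso eE.symm b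
    haveI : (Φ.obj N).IsLE b := (DerivedCategory.isLE_Q_obj_iff _ b).1 inferInstance
    exact ((Φ.obj N).exactAt_of_isLE b i hi).isZero_homology.of_iso (hI N i).symm
  have hfree : ∀ {M : X.Modules}, IsFreeMod M → FlatMod.IsFinLocFree M := fun ⟨n, ⟨e⟩⟩ =>
    isFinLocFree_of_iso e.symm (H22Alg.KModel.finLocFree_free n)
  have hs : Rel.CanStep (fun M => IsZero (R.obj M)) IsFreeMod N b := by
    intro G φ n _ h hG
    haveI := h.ge
    haveI := hG
    have hGs : DCoh.IsStrictlyPerfect G := ⟨⟨n + 1, b, fun i hi => by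
      rcases hi with hi | hi
      · exact G.isZero_of_isStrictlyGE (n + 1) i hi
      · exact G.isZero_of_isStrictlyLE b i hi⟩, fun i => hfree (h.mem i)⟩
    let C := CochainComplex.mappingCone φ
    let m : Φ.obj C ≅ CochainComplex.mappingCone (Φ.map φ) :=
      CochainComplex.mappingCone.mapHomologicalComplexIso φ R
    have hCpc : DCoh.IsPseudoCoherentD n (DCoh.toD _ (Φ.obj C)) :=
      isPseudoCoherentD_of_iso (DerivedCategory.Q.mapIso m).symm
        (isPseudoCoherentD_obj₃ (DerivedCategory.mappingCone_triangle_distinguished (Φ.map φ))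
          (isPseudoCoherentD_of_isPerfect (isPerfect_toD (isStrictlyPerfect_rd U.ι hGs)) _)
          (isPseudoCoherentD_of_iso eE.symm (hE n)))
    have hz : ∀ i, n < i → IsZero (DCoh.HD (DCoh.toD _ (Φ.obj C)) i) := fun i hi =>
      (h.cone i (by omega)).of_iso ((DerivedCategory.homologyFunctorFactors _ i).app (Φ.obj C) ≪≫ hI C i)
    have hft : CohB1.IsFT (R.obj (C.homology n)) :=
      isFT_of_epi ((DerivedCategory.homologyFunctorFactors _ n).app (Φ.obj C) ≪≫ hI C n).hom (isFT_HD_of_pc hCpc hz)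
    have hcq := isQCoh_mappingCone φ (fun i => H8Props.FinLocFree.isQCoh_of_isFinLocFree _ (hfree (h.mem i))) hNq
    obtain ⟨H, k, hH, hHft, hk⟩ := exists_ft_sub_epi_res U hU (isQCoh_cycles' _ hcq n) (isQCoh_homology' _ hcq n)
      hft (C.homologyπ n)
    obtain ⟨r, p, hp⟩ := exists_free_epi_affine hH hHft
    haveI := hp
    haveI : Epi (R.map ((p ≫ k) ≫ C.homologyπ n)) := by
      haveI := hk
      rw [Category.assoc, R.map_comp]
      infer_instance
    exact ⟨FlatMod.freeMod X r, p ≫ k, ⟨r, ⟨Iso.refl _⟩⟩, isZero_obj_cokernel R _⟩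
  obtain ⟨G, φ, hG, hP, hC⟩ := Rel.exists_resolution (S := fun M => IsZero (R.obj M)) (P := IsFreeMod) (F := N) (b₀ := b)
    (fun {M M'} p _ hM => by
      rw [IsZero.iff_id_eq_zero, ← cancel_epi (R.map p)]
      exact hM.eq_of_src _ _)
    (fun e ⟨n, ⟨f⟩⟩ => ⟨n, ⟨e.symm ≪≫ f⟩⟩)
    (fun Z hZ => ⟨0, ⟨hZ.iso ((IsZero.iff_id_eq_zero _).2 (Sigma.hom_ext _ _ fun j => j.elim0))⟩⟩)
    hF hs
  haveI := hG
  have hq : QuasiIso (Φ.map φ) := by
    rw [AcyclicLES.quasiIso_iff_acyclic_mappingCone]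
    intro i
    exact HomologicalComplex.ExactAt.of_iso
      ((HomologicalComplex.exactAt_iff_isZero_homology _ _).2 ((hC i).of_iso (hI _ i)))
      (CochainComplex.mappingCone.mapHomologicalComplexIso φ R)
  haveI := isIso_Q_map _ hq
  exact ⟨G, b, fun i hi => G.isZero_of_isStrictlyLE b i hi, hP,
    ⟨asIso (DerivedCategory.Q.map (Φ.map φ)) ≪≫ eE⟩⟩

end Groth.Agent.H16Derived.QRep
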