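import Mathlib.Algebra.Homology.HomotopyCategory.MappingCone
import Mathlib.Algebra.Homology.HomotopyCategory.HomComplexSingle
import Mathlib.Algebra.Homology.Refinements
import Mathlib.Algebra.Homology.QuasiIso
import Mathlib.Algebra.Homology.HomologicalComplexAbelian
import Mathlib.Algebra.Homology.Embedding.CochainComplex
import Mathlib.Tactic.Abel

/-!
# Resolving a complex from above by a class of objects
-/

set_option autoImplicit false
set_option linter.style.haveILetI false
set_option backward.isDefEq.respectTransparency false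

universe v u

open CategoryTheory CategoryTheory.Limits HomologicalComplex CochainComplex CochainComplex.HomComplex

namespace Groth.Agent.H16Derived.QRep

variable {A : Type u} [Category.{v} A] [Abelian A]

/-- A stage: terms in `P`, in degrees `≥ m`, an isomorphism on cohomology above `m`, onto at `m`. -/
structure IsSt (P : A → Prop) {E F : CochainComplex A ℤ} (φ : E ⟶ F) (m : ℤ) : Prop where
  ge : E.IsStrictlyGE m
  mem : ∀ i, P (E.X i)
  iso : ∀ i, m < i → IsIso (homologyMap φ i)
  epi : Epi (homologyMap φ m)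

theorem cycle_components {E F : CochainComplex A ℤ} (φ : E ⟶ F) {L : A} (n : ℤ)
    (ℓ : L ⟶ (mappingCone φ).cycles n) :
    ∃ (a : L ⟶ E.X (n + 1)) (b : L ⟶ F.X n),
      ℓ ≫ (mappingCone φ).iCycles n = a ≫ (mappingCone.inl φ).v (n + 1) n (by omega) + b ≫ (mappingCone.inr φ).f n ∧
      a ≫ E.d (n + 1) (n + 2) = 0 ∧ a ≫ φ.f (n + 1) + b ≫ F.d n (n + 1) = 0 := by
  obtain ⟨a, b, hy⟩ := mappingCone.decomp_to φ (ℓ ≫ (mappingCone φ).iCycles n) (n + 1) rfl
  have hd : (ℓ ≫ (mappingCone φ).iCycles n) ≫ (mappingCone φ).d n (n + 1) = 0 := by simp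
  rw [hy] at hd
  have h2 := (mappingCone.ext_to_iff φ (n + 1) (n + 2) (by omega) _ _).1 hd
  obtain ⟨h₁, h₂⟩ := h2
  refine ⟨a, b, hy, ?_, ?_⟩
  · simpa [mappingCone.inl_v_d φ (n + 1) n (n + 2) (by omega) (by omega), mappingCone.inr_f_d] using h₁
  · simpa [mappingCone.inl_v_d φ (n + 1) n (n + 2) (by omega) (by omega), mappingCone.inr_f_d] using h₂

/-- The step. -/
theorem exists_step (P : A → Prop) (hiso : ∀ {X Y : A} (_ : X ≅ Y), P X → P Y)
    {E F : CochainComplex A ℤ} (φ : E ⟶ F) (n : ℤ) (h : IsSt P φ (n + 1)) (b₀ : ℤ) (hb : n ≤ b₀)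
    [E.IsStrictlyLE b₀] {L : A} (hL : P L) (ℓ : L ⟶ (mappingCone φ).cycles n)
    [Epi (ℓ ≫ (mappingCone φ).homologyπ n)] :
    ∃ (E' : CochainComplex A ℤ) (u : E ⟶ E') (φ' : E' ⟶ F), IsSt P φ' n ∧ E'.IsStrictlyLE b₀ ∧
      u ≫ φ' = φ ∧ ∀ i, n < i → IsIso (u.f i) := by
  haveI := h.ge
  obtain ⟨a, b, hy, had, hab⟩ := cycle_components φ n ℓ
  let S := (CochainComplex.singleFunctor A (n + 1)).obj L
  let ψ : S ⟶ E := HomologicalComplex.mkHomFromSingle a (fun k hk => by
    obtain rfl : n + 2 = k := by simp at hk; omega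
    exact had)
  have hψ : ψ.f (n + 1) = (singleObjXSelf (ComplexShape.up ℤ) (n + 1) L).hom ≫ a :=
    HomologicalComplex.mkHomFromSingle_f _ _
  let α : Cochain S F (-1) := Cochain.fromSingleMk (-b) (show (n + 1) + (-1) = n by omega)
  have hα : δ (-1) 0 α = Cochain.ofHom (ψ ≫ φ) := by
    rw [Cochain.δ_fromSingleMk (-b) (show (n + 1) + (-1) = n by omega) 0 (n + 1) (by omega)]
    apply (Cochain.fromSingleEquiv (show (n + 1) + 0 = n + 1 by omega)).injective
    rw [Cochain.fromSingleEquiv_fromSingleMk]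
    simp only [Cochain.fromSingleEquiv, AddEquiv.coe_mk, Equiv.coe_fn_mk, Cochain.ofHom_v, comp_f, hψ]
    rw [Category.assoc, Iso.inv_hom_id_assoc, Preadditive.neg_comp]
    exact neg_eq_of_add_eq_zero_left hab
  let E' := mappingCone ψ
  let φ' : E' ⟶ F := mappingCone.desc ψ α φ hα
  let u : E ⟶ E' := mappingCone.inr ψ
  have hu : u ≫ φ' = φ := mappingCone.inr_desc _ _ _ _
  have hS : ∀ i, i ≠ n + 1 → IsZero (S.X i) := fun i hi =>
    HomologicalComplex.isZero_single_obj_X (ComplexShape.up ℤ) (n + 1) L i hi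
  have huf : ∀ i, i ≠ n → IsIso (u.f i) := fun i hi =>
    ⟨(mappingCone.snd ψ).v i i (add_zero i), mappingCone.inr_f_snd_v ψ i, by
      rw [mappingCone.ext_from_iff ψ (i + 1) i rfl]
      exact ⟨(hS (i + 1) (by omega)).eq_of_src _ _, by simp only [u, mappingCone.inr_f_snd_v_assoc]; exact (Category.comp_id _).symm⟩⟩
  haveI hge : E'.IsStrictlyGE n := (CochainComplex.isStrictlyGE_iff _ _).2 fun i hi => by
    haveI := huf i (by omega)
    exact IsZero.of_iso (E.isZero_of_isStrictlyGE (n + 1) i (by omega)) (asIso (u.f i)).symm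
  haveI hle : E'.IsStrictlyLE b₀ := (CochainComplex.isStrictlyLE_iff _ _).2 fun i hi => by
    haveI := huf i (by omega)
    exact IsZero.of_iso (E.isZero_of_isStrictlyLE b₀ i (by omega)) (asIso (u.f i)).symm
  have hEn : IsZero (E.X n) := E.isZero_of_isStrictlyGE (n + 1) n (by omega)
  let l : L ⟶ E'.X n := (singleObjXSelf (ComplexShape.up ℤ) (n + 1) L).inv ≫
    (mappingCone.inl ψ).v (n + 1) n (by omega)
  have hld : l ≫ E'.d n (n + 1) = a ≫ u.f (n + 1) := by
    have h0 : S.d (n + 1) (n + 2) = 0 := (hS (n + 2) (by omega)).eq_of_tgt _ _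
    simp only [l, u, Category.assoc]
    erw [mappingCone.inl_v_d ψ (n + 1) n (n + 2) (by omega) (by omega)]
    rw [h0, zero_comp, sub_zero, hψ, Category.assoc, Iso.inv_hom_id_assoc]
  have hlφ : l ≫ φ'.f n = -b := by
    simp [l, φ', α, mappingCone.inl_v_desc_f]
  have hEn' : P (E'.X n) := by
    haveI : IsIso l := ⟨(mappingCone.fst ψ).1.v n (n + 1) rfl ≫ (singleObjXSelf (ComplexShape.up ℤ) (n + 1) L).hom,
      by simp [l], by
        rw [mappingCone.ext_from_iff ψ (n + 1) n rfl]
        refine ⟨?_, hEn.eq_of_src _ _⟩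
        simp [l]
        exact (Category.comp_id _).symm⟩
    exact hiso (asIso l) hL
  have hmem : ∀ i, P (E'.X i) := fun i => by
    rcases eq_or_ne i n with rfl | hi
    · exact hEn'
    · haveI := huf i hi
      exact hiso (asIso (u.f i)) (h.mem i)
  -- cycles of the cone hit by `ℓ`
  have key : ∀ {W : A} (y : W ⟶ (mappingCone φ).X n), y ≫ (mappingCone φ).d n (n + 1) = 0 →
      ∃ (W' : A) (π : W' ⟶ W) (_ : Epi π) (t : W' ⟶ L) (f : W' ⟶ F.X (n - 1)),
        π ≫ y = t ≫ a ≫ (mappingCone.inl φ).v (n + 1) n (by omega) +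
          (t ≫ b + f ≫ F.d (n - 1) n) ≫ (mappingCone.inr φ).f n := by
    intro W y hy0
    obtain ⟨W₁, π₁, hπ₁, t, ht⟩ := surjective_up_to_refinements_of_epi (ℓ ≫ (mappingCone φ).homologyπ n)
      ((mappingCone φ).liftCycles y (n + 1) (by simp) hy0 ≫ (mappingCone φ).homologyπ n)
    rw [← Category.assoc, ← Category.assoc] at ht
    obtain ⟨W₂, π₂, hπ₂, w, hw⟩ :=
      ((mappingCone φ).comp_homologyπ_eq_iff_up_to_refinements (n - 1) n (by simp) _ _).1 ht
    have hw' := congrArg (· ≫ (mappingCone φ).iCycles n) hw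
    simp only [Category.assoc, Preadditive.add_comp, liftCycles_i, toCycles_i, hy] at hw'
    obtain ⟨w₁, w₂, rfl⟩ := mappingCone.decomp_to φ w n (by omega)
    have hw1 : w₁ = 0 := hEn.eq_of_tgt _ _
    refine ⟨W₂, π₂ ≫ π₁, epi_comp _ _, π₂ ≫ t, w₂, ?_⟩
    rw [Category.assoc, hw', hw1]
    simp only [zero_comp, zero_add, Preadditive.add_comp, Preadditive.comp_add, Category.assoc,
      mappingCone.inr_f_d]
    abel
  -- homology above `n + 1`
  have hiso' : ∀ i, n + 1 < i → IsIso (homologyMap φ' i) := fun i hi => by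
    haveI : QuasiIsoAt u i := by
      rw [quasiIsoAt_iff' u (i - 1) i (i + 1) (by simp) (by simp)]
      let ψ' := (HomologicalComplex.shortComplexFunctor' A (ComplexShape.up ℤ) (i - 1) i (i + 1)).map u
      haveI : IsIso ψ'.τ₁ := huf _ (by omega)
      haveI : IsIso ψ'.τ₂ := huf _ (by omega)
      haveI : IsIso ψ'.τ₃ := huf _ (by omega)
      exact ShortComplex.quasiIso_of_epi_of_isIso_of_mono ψ'
    haveI : IsIso (homologyMap u i) := (quasiIsoAt_iff_isIso_homologyMap u i).1 inferInstance
    haveI : IsIso (homologyMap u i ≫ homologyMap φ' i) := by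
      rw [← homologyMap_comp, hu]; exact h.iso i hi
    exact IsIso.of_isIso_comp_left (homologyMap u i) _
  refine ⟨E', u, φ', ⟨hge, hmem, fun i hi => ?_, ?_⟩, hle, hu, fun i hi => huf i (by omega)⟩
  · rcases lt_or_eq_of_le (show n + 1 ≤ i by omega) with hi' | rfl
    · exact hiso' i hi'
    · haveI : Epi (homologyMap φ' (n + 1)) := by
        haveI : Epi (homologyMap u (n + 1) ≫ homologyMap φ' (n + 1)) := by
          rw [← homologyMap_comp, hu]; exact h.epi
        exact epi_of_epi (homologyMap u (n + 1)) _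
      haveI : Mono (homologyMap φ' (n + 1)) := by
        rw [mono_homologyMap_iff_up_to_refinements φ' n (n + 1) (n + 2) (by simp) (by simp; omega)]
        intro W z hz f0 hf0
        haveI := huf (n + 1) (by omega)
        haveI := huf (n + 2) (by omega)
        let e := z ≫ inv (u.f (n + 1))
        have he : e ≫ u.f (n + 1) = z := by simp [e]
        have hed : e ≫ E.d (n + 1) (n + 2) = 0 := by
          rw [← cancel_mono (u.f (n + 2)), Category.assoc, ← u.comm, reassoc_of% he, hz, zero_comp]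
        have heφ : e ≫ φ.f (n + 1) = f0 ≫ F.d n (n + 1) := by
          rw [← hu, comp_f, reassoc_of% he]
          exact hf0
        obtain ⟨W', π, hπ, t, f, ht⟩ := key
          (e ≫ (mappingCone.inl φ).v (n + 1) n (by omega) + (-f0) ≫ (mappingCone.inr φ).f n) (by
            simp only [Preadditive.add_comp, Category.assoc, mappingCone.inl_v_d φ (n + 1) n (n + 2) (by omega) (by omega),
              mappingCone.inr_f_d, Preadditive.comp_sub, reassoc_of% hed, reassoc_of% heφ, zero_comp,
              Preadditive.neg_comp]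
            abel)
        have h1 := congrArg (· ≫ (mappingCone.fst φ).1.v n (n + 1) rfl) ht
        simp only [Preadditive.add_comp, Preadditive.comp_add, Category.assoc, mappingCone.inl_v_fst_v,
          mappingCone.inr_f_fst_v, comp_zero, add_zero, Category.comp_id] at h1
        refine ⟨W', π, hπ, t ≫ l, ?_⟩
        rw [Category.assoc, hld, ← Category.assoc t a, ← h1, Category.assoc, he]
      exact isIso_of_mono_of_epi _
  · rw [epi_homologyMap_iff_up_to_refinements φ' (n - 1) n (n + 1) (by simp) (by simp)]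
    intro W f hf
    obtain ⟨W', π, hπ, t, g, ht⟩ := key (f ≫ (mappingCone.inr φ).f n) (by
      rw [Category.assoc, mappingCone.inr_f_d, reassoc_of% hf, zero_comp])
    have h1 := congrArg (· ≫ (mappingCone.fst φ).1.v n (n + 1) rfl) ht
    simp only [Preadditive.add_comp, Category.assoc, mappingCone.inl_v_fst_v,
      mappingCone.inr_f_fst_v, comp_zero, add_zero, Category.comp_id] at h1
    have h2 := congrArg (· ≫ (mappingCone.snd φ).v n n (add_zero n)) ht
    simp only [Preadditive.add_comp, Category.assoc, mappingCone.inl_v_snd_v,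
      mappingCone.inr_f_snd_v, comp_zero, zero_add, Category.comp_id] at h2
    refine ⟨W', π, hπ, -(t ≫ l), ?_, g, ?_⟩
    · rw [Preadditive.neg_comp, Category.assoc, hld, ← Category.assoc, ← h1, zero_comp, neg_zero]
    · rw [h2, Preadditive.neg_comp, Category.assoc, hlφ, Preadditive.comp_neg, neg_neg]

end Groth.Agent.H16Derived.QRep
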