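import Groth.Agent.H16Derived.QRep.Roof
import Mathlib.Algebra.Homology.HomotopyCofiber
import Mathlib.CategoryTheory.Localization.Predicate

/-!
# Perfect objects as a localization of strictly perfect complexes
-/

set_option autoImplicit false
set_option linter.style.haveILetI false
set_option backward.isDefEq.respectTransparency false

universe u

open CategoryTheory CategoryTheory.Limits AlgebraicGeometry HomologicalComplex CochainComplex

attribute [local instance] HasDerivedCategory.standard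

namespace Groth.Agent.H16Derived.QRep

open Groth.Agent.H16Derived.KFlat Groth.Agent.H16Derived.KFlat.Stalk

variable {X : Scheme.{u}}

/-- Strictly perfect complexes. -/
abbrev sp (X : Scheme.{u}) : ObjectProperty (CochainComplex X.Modules ℤ) :=
  fun E => DCoh.IsStrictlyPerfect E

/-- Their quasi-isomorphisms. -/
abbrev Wsp (X : Scheme.{u}) : MorphismProperty (sp X).FullSubcategory :=
  (HomologicalComplex.quasiIso X.Modules (ComplexShape.up ℤ)).inverseImage (sp X).ι

theorem isStrictlyPerfect_biprod {E F : CochainComplex X.Modules ℤ} (hE : DCoh.IsStrictlyPerfect E)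
    (hF : DCoh.IsStrictlyPerfect F) : DCoh.IsStrictlyPerfect (E ⊞ F) := by
  obtain ⟨⟨a, b, hab⟩, hEf⟩ := hE
  obtain ⟨⟨c, d, hcd⟩, hFf⟩ := hF
  refine ⟨⟨min a c, max b d, fun i hi => ?_⟩, fun i =>
    isFinLocFree_of_iso (HomologicalComplex.biprodXIso E F i).symm (isFinLocFree_biprod (hEf i) (hFf i))⟩
  have h1 : IsZero (E.X i ⊞ F.X i) := by
    rw [biprod_isZero_iff]
    exact ⟨hab _ (by omega), hcd _ (by omega)⟩
  exact h1.of_iso (HomologicalComplex.biprodXIso E F i)

theorem isStrictlyPerfect_cylinder {E : CochainComplex X.Modules ℤ} (hE : DCoh.IsStrictlyPerfect E) :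
    DCoh.IsStrictlyPerfect (HomologicalComplex.cylinder E) :=
  isStrictlyPerfect_mappingCone _ hE (isStrictlyPerfect_biprod hE hE)

/-- Homotopic maps agree in the localization. -/
theorem map_eq_of_homotopy {E F : (sp X).FullSubcategory} (f g : E ⟶ F) (h : Homotopy f.hom g.hom) :
    (Wsp X).Q.map f = (Wsp X).Q.map g := by
  have hc : ∀ j : ℤ, ∃ i, (ComplexShape.up ℤ).Rel i j := fun j => ⟨j - 1, by simp⟩
  let C : (sp X).FullSubcategory := ⟨_, isStrictlyPerfect_cylinder E.property⟩
  let i₀ : E ⟶ C := ObjectProperty.homMk (HomologicalComplex.cylinder.ι₀ E.obj)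
  let i₁ : E ⟶ C := ObjectProperty.homMk (HomologicalComplex.cylinder.ι₁ E.obj)
  let p : C ⟶ E := ObjectProperty.homMk (HomologicalComplex.cylinder.π E.obj)
  let k : C ⟶ F := ObjectProperty.homMk (HomologicalComplex.cylinder.desc f.hom g.hom h)
  have hp : Wsp X p :=
    (HomologicalComplex.cylinder.homotopyEquiv E.obj hc).quasiIso_hom
  haveI : IsIso ((Wsp X).Q.map p) := Localization.inverts (Wsp X).Q (Wsp X) p hp
  have h0 : i₀ ≫ p = 𝟙 E := ObjectProperty.hom_ext _ (HomologicalComplex.cylinder.ι₀_π _)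
  have h1 : i₁ ≫ p = 𝟙 E := ObjectProperty.hom_ext _ (HomologicalComplex.cylinder.ι₁_π _)
  have e : (Wsp X).Q.map i₀ = (Wsp X).Q.map i₁ := by
    rw [← cancel_mono ((Wsp X).Q.map p), ← Functor.map_comp, ← Functor.map_comp, h0, h1]
  have hf : i₀ ≫ k = f := ObjectProperty.hom_ext _ (HomologicalComplex.cylinder.ι₀_desc _ _ _)
  have hg : i₁ ≫ k = g := ObjectProperty.hom_ext _ (HomologicalComplex.cylinder.ι₁_desc _ _ _)
  rw [← hf, ← hg, Functor.map_comp, Functor.map_comp, e]

variable [CompactSpace X] [QuasiSeparatedSpace X] (hX : PerfAux.HasResolutionProperty X)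

include hX in
/-- Equality in the derived category implies equality in the localization. -/
theorem map_eq_of_Q_eq {E F : (sp X).FullSubcategory} (f g : E ⟶ F)
    (h : DerivedCategory.Q.map f.hom = DerivedCategory.Q.map g.hom) : (Wsp X).Q.map f = (Wsp X).Q.map g := by
  obtain ⟨G, γ, hG, hγ, ⟨H⟩⟩ := exists_homotopy_after hX E.obj F.obj E.property F.property f.hom g.hom h
  let G' : (sp X).FullSubcategory := ⟨G, hG⟩
  let γ' : G' ⟶ E := ObjectProperty.homMk γ
  haveI : IsIso ((Wsp X).Q.map γ') := Localization.inverts (Wsp X).Q (Wsp X) γ' hγ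
  rw [← cancel_epi ((Wsp X).Q.map γ'), ← Functor.map_comp, ← Functor.map_comp]
  exact map_eq_of_homotopy _ _ H

/-- Being a roof. -/
def IsRoof : MorphismProperty (Wsp X).Localization := fun A B φ =>
  ∃ (Y : (sp X).FullSubcategory) (s : Y ⟶ A.as.obj) (hs : Wsp X s) (t : Y ⟶ B.as.obj),
    φ = Localization.Construction.wInv s hs ≫ (Wsp X).Q.map t

include hX in
theorem isRoof_comp : (IsRoof (X := X)).IsStableUnderComposition := by
  refine ⟨fun {A B C} φ ψ ⟨Y, s, hs, t, hφ⟩ ⟨Y', s', hs', t', hψ⟩ => ?_⟩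
  haveI : IsIso (DerivedCategory.Q.map s'.hom) := isIso_Q_map _ hs'
  obtain ⟨G, u, v, hG, hu, huv⟩ := exists_roof hX Y.obj Y'.obj Y.property Y'.property
    (DerivedCategory.Q.map t.hom ≫ inv (DerivedCategory.Q.map s'.hom))
  let G' : (sp X).FullSubcategory := ⟨G, hG⟩
  let u' : G' ⟶ Y := ObjectProperty.homMk u
  let v' : G' ⟶ Y' := ObjectProperty.homMk v
  have hsq : (Wsp X).Q.map (u' ≫ t) = (Wsp X).Q.map (v' ≫ s') := by
    refine map_eq_of_Q_eq hX _ _ ?_
    show DerivedCategory.Q.map (u ≫ t.hom) = DerivedCategory.Q.map (v ≫ s'.hom)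
    rw [Functor.map_comp, Functor.map_comp, ← huv, Category.assoc, Category.assoc, IsIso.inv_hom_id,
      Category.comp_id]
  have hus : Wsp X (u' ≫ s) := by
    haveI := hu
    haveI : QuasiIso s.hom := hs
    exact (inferInstance : QuasiIso (u ≫ s.hom))
  haveI := Localization.inverts (Wsp X).Q (Wsp X) u' hu
  haveI := Localization.inverts (Wsp X).Q (Wsp X) s hs
  haveI := Localization.inverts (Wsp X).Q (Wsp X) s' hs'
  haveI := Localization.inverts (Wsp X).Q (Wsp X) _ hus
  refine ⟨G', u' ≫ s, hus, v' ≫ t', ?_⟩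
  have inv_eq : ∀ {P R : (sp X).FullSubcategory} (w : P ⟶ R) (hw : Wsp X w),
      haveI := Localization.inverts (Wsp X).Q (Wsp X) w hw
      Localization.Construction.wInv w hw = inv ((Wsp X).Q.map w) := fun w hw =>
    haveI := Localization.inverts (Wsp X).Q (Wsp X) w hw
    IsIso.eq_inv_of_hom_inv_id ((Localization.Construction.wIso w hw).hom_inv_id)
  rw [hφ, hψ, inv_eq, inv_eq, inv_eq]
  rw [Functor.map_comp, Functor.map_comp] at hsq
  simp only [Functor.map_comp, IsIso.inv_comp, Category.assoc]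
  congr 1
  rw [IsIso.eq_inv_comp, ← Category.assoc, hsq, Category.assoc, IsIso.hom_inv_id_assoc]

include hX in
theorem isRoof_top (A B : (Wsp X).Localization) (φ : A ⟶ B) : IsRoof φ := by
  haveI := isRoof_comp hX
  have e := Localization.Construction.morphismProperty_eq_top (IsRoof (X := X))
    (fun E F f => ⟨E, 𝟙 E, (inferInstance : QuasiIso (𝟙 E.obj)), f, by
      rw [show Localization.Construction.wInv (𝟙 E) _ = 𝟙 _ from
        ((Iso.inv_eq_inv (Localization.Construction.wIso (𝟙 E) _) (Iso.refl _)).2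
          ((Wsp X).Q.map_id E) : _)]
      exact (Category.id_comp _).symm⟩)
    (fun E F w hw => ⟨E, w, hw, 𝟙 E, by
      rw [CategoryTheory.Functor.map_id]
      exact (Category.comp_id _).symm⟩)
  rw [e]
  trivial

include hX in
theorem isLocalization_lift
    (h : ∀ E : (sp X).FullSubcategory, DCoh.IsPerfect (((sp X).ι ⋙ DerivedCategory.Q).obj E)) :
    (ObjectProperty.lift (fun K : DCoh.D X => DCoh.IsPerfect K) ((sp X).ι ⋙ DerivedCategory.Q) h).IsLocalization
      (Wsp X) := by
  let L := ObjectProperty.lift (fun K : DCoh.D X => DCoh.IsPerfect K) ((sp X).ι ⋙ DerivedCategory.Q) h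
  let ι' := ObjectProperty.ι (fun K : DCoh.D X => DCoh.IsPerfect K)
  have hinv : (Wsp X).IsInvertedBy L := fun E F w hw => by
    haveI : IsIso (ι'.map (L.map w)) := isIso_Q_map _ hw
    exact isIso_of_reflects_iso _ ι'
  let Φ := Localization.Construction.lift L hinv
  let T := Φ ⋙ ι'
  have hmap : ∀ {E F : (sp X).FullSubcategory} (f : E ⟶ F), T.map ((Wsp X).Q.map f) = DerivedCategory.Q.map f.hom :=
    fun f => rfl
  have hroof : ∀ {A B : (Wsp X).Localization} (φ : A ⟶ B),
      ∃ (Y : (sp X).FullSubcategory) (s : Y ⟶ A.as.obj) (t : Y ⟶ B.as.obj),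
        Wsp X s ∧ (Wsp X).Q.map s ≫ φ = (Wsp X).Q.map t := fun {A B} φ => by
    obtain ⟨Y, s, hs, t, hφ⟩ := isRoof_top hX A B φ
    refine ⟨Y, s, t, hs, ?_⟩
    rw [hφ]
    exact (Localization.Construction.wIso s hs).hom_inv_id_assoc _
  haveI : Φ.Faithful := ⟨fun {A B} φ ψ hφψ => by
    obtain ⟨Y, s, t, hs, h1⟩ := hroof φ
    obtain ⟨Y', s', t', hs', h2⟩ := hroof ψ
    haveI : IsIso (DerivedCategory.Q.map s'.hom) := isIso_Q_map _ hs'
    obtain ⟨G, u, v, hG, hu, huv⟩ := exists_roof hX Y.obj Y'.obj Y.property Y'.property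
      (DerivedCategory.Q.map s.hom ≫ inv (DerivedCategory.Q.map s'.hom))
    let G' : (sp X).FullSubcategory := ⟨G, hG⟩
    let u' : G' ⟶ Y := ObjectProperty.homMk u
    let v' : G' ⟶ Y' := ObjectProperty.homMk v
    have e1 : DerivedCategory.Q.map (u ≫ s.hom) = DerivedCategory.Q.map (v ≫ s'.hom) := by
      rw [Functor.map_comp, Functor.map_comp, ← huv, Category.assoc, Category.assoc, IsIso.inv_hom_id,
        Category.comp_id]
    have h1' : DerivedCategory.Q.map s.hom ≫ T.map φ = DerivedCategory.Q.map t.hom :=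
      (T.map_comp _ _).symm.trans (congrArg T.map h1)
    have h2' : DerivedCategory.Q.map s'.hom ≫ T.map ψ = DerivedCategory.Q.map t'.hom :=
      (T.map_comp _ _).symm.trans (congrArg T.map h2)
    have hTeq : T.map φ = T.map ψ := congrArg ι'.map hφψ
    have e2 : DerivedCategory.Q.map (u ≫ t.hom) = DerivedCategory.Q.map (v ≫ t'.hom) := by
      rw [Functor.map_comp, Functor.map_comp, ← h1', ← h2', ← Category.assoc, ← Category.assoc,
        ← Functor.map_comp, ← Functor.map_comp, e1, hTeq]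
    have f1 := map_eq_of_Q_eq hX (u' ≫ s) (v' ≫ s') e1
    have f2 := map_eq_of_Q_eq hX (u' ≫ t) (v' ≫ t') e2
    haveI := Localization.inverts (Wsp X).Q (Wsp X) u' hu
    haveI := Localization.inverts (Wsp X).Q (Wsp X) s hs
    refine (cancel_epi ((Wsp X).Q.map u' ≫ (Wsp X).Q.map s)).1 ?_
    have f1' : (Wsp X).Q.map u' ≫ (Wsp X).Q.map s = (Wsp X).Q.map v' ≫ (Wsp X).Q.map s' :=
      ((Functor.map_comp _ _ _).symm.trans f1).trans (Functor.map_comp _ _ _)
    refine (Category.assoc _ _ _).trans ((congrArg (_ ≫ ·) h1).trans ?_)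
    refine (((Functor.map_comp _ _ _).symm.trans f2).trans (Functor.map_comp _ _ _)).trans ?_
    refine Eq.trans ?_ (congrArg (· ≫ ψ) f1'.symm)
    exact ((congrArg (_ ≫ ·) h2).symm).trans (Category.assoc _ _ _).symm⟩
  haveI : Φ.Full := ⟨fun {A B} α => by
    obtain ⟨G, g, k, hG, hg, hgk⟩ := exists_roof hX A.as.obj.obj B.as.obj.obj A.as.obj.property B.as.obj.property
      (ι'.map α)
    let G' : (sp X).FullSubcategory := ⟨G, hG⟩
    let g' : G' ⟶ A.as.obj := ObjectProperty.homMk g
    let k' : G' ⟶ B.as.obj := ObjectProperty.homMk k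
    refine ⟨Localization.Construction.wInv g' hg ≫ (Wsp X).Q.map k', ι'.map_injective ?_⟩
    haveI : IsIso (DerivedCategory.Q.map g) := isIso_Q_map _ hg
    refine (cancel_epi (DerivedCategory.Q.map g)).1 (Eq.trans ?_ hgk.symm)
    exact (T.map_comp ((Wsp X).Q.map g')
        ((Localization.Construction.wIso g' hg).inv ≫ (Wsp X).Q.map k')).symm.trans
      (congrArg T.map ((Localization.Construction.wIso g' hg).hom_inv_id_assoc ((Wsp X).Q.map k')))⟩
  haveI : Φ.EssSurj := ⟨fun K => by
    obtain ⟨a, b, hab, hamp⟩ := exists_hasPerfectAmplitudeIn K.property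
    obtain ⟨F, hFa, hFq, ⟨e⟩⟩ := exists_qcoh_rep_amp hX K.obj hamp
    obtain ⟨E, φ, hE, hφ⟩ := exists_strictlyPerfect_qis hX F hFq a
      (fun n hn => F.isZero_of_isStrictlyGE a n hn) (isPerfect_of_iso e.symm K.property)
    haveI : IsIso (DerivedCategory.Q.map φ) := isIso_Q_map _ hφ
    exact ⟨(Wsp X).Q.obj ⟨E, hE⟩, ⟨ObjectProperty.isoMk _ (asIso (DerivedCategory.Q.map φ) ≪≫ e)⟩⟩⟩
  exact { inverts := hinv, isEquivalence := Functor.IsEquivalence.mk }

end Groth.Agent.H16Derived.QRep
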