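import Groth.Agent.H16Derived.QRep.FF
import Groth.Agent.H16Derived.QRep.Vanish
import Groth.Agent.H16Derived.DMinus.Bounded
import Groth.Agent.H17.QCohCat.Groth
import Groth.Agent.S7445

/-!
# Bounded objects with quasi-coherent cohomology on a quasi-compact scheme with affine diagonal
-/

set_option autoImplicit false
set_option linter.style.haveILetI false
set_option backward.isDefEq.respectTransparency false

universe u

open CategoryTheory CategoryTheory.Limits AlgebraicGeometry DerivedCategory DerivedCategory.TStructure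

attribute [local instance] HasDerivedCategory.standard

namespace Groth.Agent.H16Derived.QRep

open Groth.Agent.H16Derived.QCohD

variable {X : Scheme.{u}}

/-- Quasi-coherent modules, as a property. -/
abbrev qc (X : Scheme.{u}) : ObjectProperty X.Modules := fun M => Coh.IsQCoh M

theorem acyclicInj [CompactSpace X]
    (hd : ∀ U V : X.Opens, IsAffineOpen U → IsAffineOpen V → IsAffineOpen (U ⊓ V))
    [(qc X).ContainsZero] [(qc X).IsClosedUnderKernels] [(qc X).IsClosedUnderCokernels]
    [(qc X).IsClosedUnderFiniteProducts] [PreservesFiniteLimits (qc X).ι] [PreservesFiniteColimits (qc X).ι] :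
    AcyclicInj (qc X).ι := by
  intro M J hJ q f
  obtain ⟨n, N, i, hN, hvan, hi⟩ := exists_mono_van hd J.property
  haveI := hi
  let J' : (qc X).FullSubcategory := ⟨⨁ N, haveI : ∀ k, (N k).IsQuasicoherent := hN
    H10Coh.isQuasicoherent_biproduct _⟩
  let i' : J ⟶ J' := ObjectProperty.homMk i
  haveI : Mono ((qc X).ι.map i') := hi
  haveI : Mono i' := Functor.mono_of_mono_map (qc X).ι inferInstance
  haveI := hJ
  have hr : i ≫ (qc X).ι.map (Injective.factorThru (𝟙 J) i') = 𝟙 J.obj := by
    have h := congrArg (qc X).ι.map (Injective.comp_factorThru (𝟙 J) i')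
    rw [Functor.map_comp, CategoryTheory.Functor.map_id] at h
    exact h
  let S0 := singleFunctor X.Modules 0
  let s : ∀ A : X.Modules, (S0.obj A)⟦((q + 1 : ℕ) : ℤ)⟧ ≅ (singleFunctor X.Modules (-((q + 1 : ℕ) : ℤ))).obj A :=
    fun A => ((singleFunctors X.Modules).shiftIso ((q + 1 : ℕ) : ℤ) (-((q + 1 : ℕ) : ℤ)) 0 (by omega)).app A
  let F := singleFunctor X.Modules 0 ⋙ shiftFunctor (DCoh.D X) ((q + 1 : ℕ) : ℤ)
  have hk : ∀ k, f ≫ F.map (i ≫ biproduct.π N k) = 0 := fun k => by
    refine (cancel_mono (s (N k)).hom).1 ?_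
    rw [zero_comp]
    exact hvan k _ M.property _ (by omega) _
  have h1 : f ≫ F.map i = 0 := by
    have e : i = ∑ k, (i ≫ biproduct.π N k) ≫ biproduct.ι N k := by
      conv_lhs => rw [← Category.comp_id i, ← biproduct.total]
      rw [Preadditive.comp_sum]
      simp only [Category.assoc]
    rw [e, Functor.map_sum, Preadditive.comp_sum]
    refine Finset.sum_eq_zero fun k _ => ?_
    rw [F.map_comp, ← Category.assoc, hk k, zero_comp]
  have h2 := congrArg (fun t => f ≫ F.map t) hr
  simp only [F.map_comp, ← Category.assoc, h1, zero_comp] at h2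
  exact ((h2.trans ((congrArg (f ≫ ·) (F.map_id _)).trans (Category.comp_id _))).symm)

/-- A bounded object with quasi-coherent cohomology is a bounded complex of quasi-coherent modules. -/
theorem exists_qcoh_rep [CompactSpace X]
    (hd : ∀ U V : X.Opens, IsAffineOpen U → IsAffineOpen V → IsAffineOpen (U ⊓ V))
    (K : DCoh.D X) (a b : ℤ) [K.IsGE a] [K.IsLE b] (hK : DCoh.IsQCohD K) :
    ∃ L : CochainComplex X.Modules ℤ, L.IsStrictlyGE a ∧ L.IsStrictlyLE b ∧ (∀ n, Coh.IsQCoh (L.X n)) ∧
      Nonempty (DCoh.toD X L ≅ K) := by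
  let q := qc X
  haveI : q.ContainsZero := inferInstanceAs ((QCohCat.isQCoh X).ContainsZero)
  haveI : q.IsClosedUnderKernels := inferInstanceAs ((QCohCat.isQCoh X).IsClosedUnderKernels)
  haveI : q.IsClosedUnderCokernels := inferInstanceAs ((QCohCat.isQCoh X).IsClosedUnderCokernels)
  haveI : q.IsClosedUnderFiniteProducts := inferInstanceAs ((QCohCat.isQCoh X).IsClosedUnderFiniteProducts)
  haveI := q.preservesKernels_ι
  haveI := q.preservesCokernels_ι
  haveI : PreservesFiniteLimits q.ι := Functor.preservesFiniteLimits_of_preservesKernels _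
  haveI : PreservesFiniteColimits q.ι := Functor.preservesFiniteColimits_of_preservesCokernels _
  letI := HasDerivedCategory.standard q.FullSubcategory
  haveI : EnoughInjectives q.FullSubcategory := Groth.Agent.S7445.result X
  obtain ⟨M, hMa, hMb, ⟨e⟩⟩ := BoundedEquiv.exists_iso_bounded q.ι (surjective_bounded (acyclicInj hd))
    K a b inferInstance inferInstance (fun n => ⟨⟨_, hK n⟩, ⟨Iso.refl _⟩⟩)
  haveI := hMa
  haveI := hMb
  obtain ⟨L, hLa, hLb, ⟨eL⟩⟩ := M.exists_iso_Q_obj_of_isGE_of_isLE a b
  let L' := (q.ι.mapHomologicalComplex (ComplexShape.up ℤ)).obj L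
  refine ⟨L', ?_, ?_, fun n => (L.X n).property,
    ⟨(q.ι.mapDerivedCategoryFactors.app L).symm ≪≫ (q.ι.mapDerivedCategory.mapIso eL).symm ≪≫ e⟩⟩
  · exact (CochainComplex.isStrictlyGE_iff _ _).2 fun n hn => q.ι.map_isZero (L.isZero_of_isStrictlyGE a n hn)
  · exact (CochainComplex.isStrictlyLE_iff _ _).2 fun n hn => q.ι.map_isZero (L.isZero_of_isStrictlyLE b n hn)

end Groth.Agent.H16Derived.QRep
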