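import Groth.Agent.H16Derived.QRep.Cover
import Groth.Agent.H16Derived.QRep.Rep
import Groth.Agent.H16Derived.AmpleNegQuot
import Groth.Agent.H14ResProp.AffineDiag
import Groth.Agent.H22Alg.ExtPowSum

/-!
# Global resolutions on schemes with the resolution property or an ample family
-/

set_option autoImplicit false
set_option linter.style.haveILetI false
set_option backward.isDefEq.respectTransparency false

universe u

open CategoryTheory CategoryTheory.Limits AlgebraicGeometry HomologicalComplex CochainComplex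

attribute [local instance] HasDerivedCategory.standard

namespace Groth.Agent.H16Derived.QRep

open Groth.Agent.H16Derived.KFlat Groth.Agent.H16Derived.KFlat.Stalk Groth.Agent.H16Derived.TorTest

variable {X : Scheme.{u}}

theorem hasPerfectAmplitudeIn_mono {K : DCoh.D X} {a b a' b' : ℤ} (h : KSix.HasPerfectAmplitudeIn a b K)
    (ha : a' ≤ a) (hb : b ≤ b') : KSix.HasPerfectAmplitudeIn a' b' K := fun x => by
  obtain ⟨V, hx, hV⟩ := h x
  exact ⟨V, hx, fun F hF => by
    obtain ⟨E, h1, h2, h3⟩ := hV F hF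
    exact ⟨E, fun i hi => h1 i (by omega), h2, h3⟩⟩

theorem hasPerfectAmplitudeIn_of_iso {K K' : DCoh.D X} (e : K ≅ K') {a b : ℤ}
    (h : KSix.HasPerfectAmplitudeIn a b K) : KSix.HasPerfectAmplitudeIn a b K' := fun x => by
  obtain ⟨V, hx, hV⟩ := h x
  exact ⟨V, hx, fun F ⟨eF⟩ => hV F ⟨eF ≪≫ e.symm⟩⟩

/-- A finite resolution from above by a class of bundles. -/
theorem exists_finite_qis [CompactSpace X] [QuasiSeparatedSpace X] {P : X.Modules → Prop}
    (hP : ∀ M, P M → FlatMod.IsFinLocFree M) (hiso : ∀ {M N : X.Modules} (_ : M ≅ N), P M → P N)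
    (h0 : ∀ Z : X.Modules, IsZero Z → P Z)
    (hcov : ∀ M : X.Modules, Coh.IsQCoh M → CohB1.IsFT M → ∃ (L : X.Modules) (π : L ⟶ M), P L ∧ Epi π)
    (F : CochainComplex X.Modules ℤ) (hFq : ∀ i, Coh.IsQCoh (F.X i)) (a b : ℤ) (hab : a ≤ b)
    [F.IsStrictlyGE a] (hF : KSix.HasPerfectAmplitudeIn a b (DCoh.toD X F)) :
    ∃ (E : CochainComplex X.Modules ℤ) (φ : E ⟶ F), QuasiIso φ ∧ DCoh.VanishesOutside E a b ∧
      (∀ i, a < i → P (E.X i)) ∧ ∀ i, FlatMod.IsFinLocFree (E.X i) := by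
  have hta := hasTorAmplitude_of_hasPerfectAmplitudeIn hF
  obtain ⟨-, hb2⟩ := bounds_of_ta (𝟙 X) hta
  haveI : F.IsLE b := (DerivedCategory.isLE_Q_obj_iff F b).1 hb2
  have hz : ∀ i, b < i → IsZero (F.homology i) := fun i hi => (F.exactAt_of_isLE b i hi).isZero_homology
  have hpc : ∀ m, DCoh.IsPseudoCoherentD m (DCoh.toD X F) :=
    isPseudoCoherentD_of_isPerfect (isPerfect_of_hasPerfectAmplitudeIn hF)
  obtain ⟨E, φ, hst, hle⟩ := exists_stage hiso h0 hz (canStep hP hcov F hFq hpc b) (a - 1) (by omega)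
  haveI := hst.ge
  haveI := hle
  have hE : DCoh.IsStrictlyPerfect E := ⟨⟨a - 1, b, fun i hi => by
    rcases hi with hi | hi
    · exact E.isZero_of_isStrictlyGE (a - 1) i hi
    · exact E.isZero_of_isStrictlyLE b i hi⟩, fun i => hP _ (hst.mem i)⟩
  obtain ⟨β, hβ, hT⟩ := exists_cut hab hta hE φ fun i hi => hst.iso i (by omega)
  refine ⟨E.truncGE a, β, hβ, fun i hi => ?_, fun i hi => hiso (E.truncGEXIso a i hi).symm (hst.mem i), hT.2⟩
  rcases hi with hi | hi
  · exact (E.truncGE a).isZero_of_isStrictlyGE a i hi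
  · exact (E.isZero_of_isStrictlyLE b i hi).of_iso (E.truncGEXIso a i (by omega))

/-- A strictly perfect resolution of a bounded below complex of quasi-coherent modules with perfect image. -/
theorem exists_strictlyPerfect_qis [CompactSpace X] [QuasiSeparatedSpace X]
    (hX : PerfAux.HasResolutionProperty X) (F : CochainComplex X.Modules ℤ) (hFq : ∀ i, Coh.IsQCoh (F.X i))
    (a₀ : ℤ) (hFb : ∀ n, n < a₀ → IsZero (F.X n)) (hF : DCoh.IsPerfect (DCoh.toD X F)) :
    ∃ (E : CochainComplex X.Modules ℤ) (φ : E ⟶ F), DCoh.IsStrictlyPerfect E ∧ QuasiIso φ := by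
  obtain ⟨a, b, hab, hamp⟩ := exists_hasPerfectAmplitudeIn hF
  haveI : F.IsStrictlyGE (min a a₀) := (CochainComplex.isStrictlyGE_iff _ _).2 fun i hi => hFb i (by omega)
  obtain ⟨E, φ, hφ, hv, -, hf⟩ := exists_finite_qis (P := FlatMod.IsFinLocFree) (fun _ h => h)
    (fun e h => isFinLocFree_of_iso e h) (fun _ h => isFinLocFree_of_isZero h) hX F hFq (min a a₀) b (by omega)
    (hasPerfectAmplitudeIn_mono hamp (min_le_left _ _) le_rfl)
  exact ⟨E, φ, ⟨⟨_, _, hv⟩, hf⟩, hφ⟩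

/-- Quasi-coherent representatives in a given range. -/
theorem exists_qcoh_rep_amp [CompactSpace X] [QuasiSeparatedSpace X] (hX : PerfAux.HasResolutionProperty X)
    (K : DCoh.D X) {a b : ℤ} (hK : KSix.HasPerfectAmplitudeIn a b K) :
    ∃ F : CochainComplex X.Modules ℤ, F.IsStrictlyGE a ∧ (∀ i, Coh.IsQCoh (F.X i)) ∧
      Nonempty (DCoh.toD X F ≅ K) := by
  let F₀ := DerivedCategory.Q.objPreimage K
  let e₀ : DCoh.toD X F₀ ≅ K := DerivedCategory.Q.objObjPreimageIso K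
  obtain ⟨h1, h2⟩ := bounds_of_ta (𝟙 X)
    (hasTorAmplitude_of_hasPerfectAmplitudeIn (hasPerfectAmplitudeIn_of_iso e₀.symm hK))
  haveI : K.IsGE a := DerivedCategory.TStructure.t.isGE_of_iso e₀ a
  haveI : K.IsLE b := DerivedCategory.TStructure.t.isLE_of_iso e₀ b
  obtain ⟨L, hL, -, hLq, hLe⟩ := exists_qcoh_rep
    (fun U V hU hV => H14ResProp.AffineDiag.isAffineOpen_inf hX hU hV) K a b
    (Dual.isQCohD_of_isPerfect (isPerfect_of_hasPerfectAmplitudeIn hK))
  exact ⟨L, hL, hLq, hLe⟩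

theorem isInvertible_of_negPower {ι : Type u} {L : ι → X.Modules} (hL : ∀ i, PicF.IsInvertible (L i))
    {M : X.Modules} (hM : KSix.IsNegPower L M) : FlatMod.IsFinLocFree M := by
  obtain ⟨i, k, -, ⟨e⟩⟩ := hM
  let P := CohB1.tensorPow (L i) k
  obtain ⟨P', hP', ⟨e'⟩⟩ := H11Sym.exists_inverse (H11Ample.isInvertible_tensorPow (hL i) k)
  let θ : P' ≅ M :=
    (H11Ample.tensorLeftUnitIso P').symm ≪≫ PicGrp.tensorModIso e.symm (Iso.refl P') ≪≫
      H11Ample.tensorAssocIso M P P' ≪≫ PicGrp.tensorModIso (Iso.refl M) (H11Ample.tensorCommIso P P' ≪≫ e') ≪≫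
      H11Ample.tensorCommIso M (Coh.structureModule X) ≪≫ H11Ample.tensorLeftUnitIso M
  exact isFinLocFree_of_iso θ (H22Alg.KModel.finLocFree_invertible hP')

theorem isFinLocFree_of_inAddL {ι : Type u} {L : ι → X.Modules} (hL : KSix.IsAmpleFamily L)
    {M : X.Modules} (hM : KSix.InAddL L M) : FlatMod.IsFinLocFree M := by
  obtain ⟨n, N, hN, ⟨e⟩⟩ := hM
  exact isFinLocFree_of_iso e.symm
    (H22Alg.ExtPowSum.finLocFree_biproduct N fun j => isInvertible_of_negPower hL.2.2.1 (hN j)).1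

theorem inAddL_of_iso {ι : Type u} {L : ι → X.Modules} {M N : X.Modules} (e : M ≅ N)
    (h : KSix.InAddL L M) : KSix.InAddL L N := by
  obtain ⟨n, K, hK, ⟨f⟩⟩ := h
  exact ⟨n, K, hK, ⟨e.symm ≪≫ f⟩⟩

theorem inAddL_of_isZero {ι : Type u} {L : ι → X.Modules} {Z : X.Modules} (hZ : IsZero Z) :
    KSix.InAddL L Z :=
  ⟨0, Fin.elim0, fun j => j.elim0, ⟨hZ.iso ((IsZero.iff_id_eq_zero _).2 (biproduct.hom_ext _ _ fun j => j.elim0))⟩⟩

theorem hasResolutionProperty_of_isAmpleFamily {ι : Type u} {L : ι → X.Modules} (hL : KSix.IsAmpleFamily L) :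
    PerfAux.HasResolutionProperty X := fun M hM hM' => by
  obtain ⟨E, π, hE, hπ⟩ := AmpleNegQuot.exists_inAddL_epi hL hM hM'
  exact ⟨E, π, isFinLocFree_of_inAddL hL hE, hπ⟩

end Groth.Agent.H16Derived.QRep
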