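import Groth.Agent.H16Derived.QRep.FreeExtend
import Groth.Agent.H16Derived.Stupid
import Groth.Agent.H16Derived.QCohD.HomVanish
import Groth.Agent.H16Derived.QCohD.AcyclicUnit
import Groth.Agent.H16Derived.QRep.Main

/-!
# Perfect objects extend up to a shifted bundle
-/

set_option autoImplicit false
set_option linter.style.haveILetI false
set_option backward.isDefEq.respectTransparency false

universe u

open CategoryTheory CategoryTheory.Limits AlgebraicGeometry HomologicalComplex CochainComplex
  CategoryTheory.Pretriangulated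

attribute [local instance] HasDerivedCategory.standard

namespace Groth.Agent.H16Derived.QRep

open Groth.Agent.H16Derived.KFlat Groth.Agent.H16Derived.KFlat.Stalk Groth.Agent.H16Derived.TorTest

variable {X : Scheme.{u}}

/-- Perfect objects on quasi-compact opens of affine schemes extend after adding a shifted bundle. -/
theorem exists_perfect_extension [IsAffine X] (U : X.Opens) (hU : IsCompact (U : Set X))
    (E : DCoh.D (U : Scheme.{u})) (hE : DCoh.IsPerfect E) :
    ∃ (r : ℤ) (F : (U : Scheme.{u}).Modules) (G : CochainComplex X.Modules ℤ),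
      FlatMod.IsFinLocFree F ∧ DCoh.IsPerfect (DCoh.toD X G) ∧
      Nonempty (DerivedCategory.Q.obj ((DCoh.restrictCx U).obj G) ≅
        (DCoh.inD (U : Scheme.{u}) F)⟦-r⟧ ⊞ E) := by
  let R := Scheme.Modules.restrictFunctor U.ι
  let Φ := DCoh.restrictCx U
  haveI : CompactSpace (U : Scheme.{u}) := isCompact_iff_compactSpace.1 hU
  haveI : QuasiSeparatedSpace (U : Scheme.{u}) := U.ι.isOpenEmbedding.quasiSeparatedSpace
  obtain ⟨G, b, hGb, hGf, ⟨eG⟩⟩ := exists_free_extension U hU E (isPseudoCoherentD_of_isPerfect hE)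
  obtain ⟨a, b', hab, hamp⟩ := exists_hasPerfectAmplitudeIn hE
  obtain ⟨c, hc⟩ := QCohD.HomVanish.van_of_isPerfect hE
  let n : ℤ := min (min a c) b - 2
  let P := Stupid.σ G (n + 1)
  have hPf : ∀ i, FlatMod.IsFinLocFree (P.X i) := fun i => by
    by_cases h : n + 1 ≤ i
    · haveI := Stupid.isIso_ι_f G (n + 1) i h
      obtain ⟨r, ⟨e⟩⟩ := hGf i
      exact isFinLocFree_of_iso (asIso ((Stupid.ι G (n + 1)).f i) ≪≫ e).symm (H22Alg.KModel.finLocFree_free r)
    · exact isFinLocFree_of_isZero (Stupid.isZero_X G (n + 1) i (not_le.1 h))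
  have hP : DCoh.IsStrictlyPerfect P := ⟨⟨n + 1, b, fun i hi => by
    rcases hi with hi | hi
    · exact Stupid.isZero_X G (n + 1) i hi
    · by_cases h : n + 1 ≤ i
      · haveI := Stupid.isIso_ι_f G (n + 1) i h
        exact (hGb i hi).of_iso (asIso ((Stupid.ι G (n + 1)).f i))
      · exact Stupid.isZero_X G (n + 1) i (not_le.1 h)⟩, hPf⟩
  let T := (Φ.obj G).truncGE a
  haveI : (DCoh.toD _ (Φ.obj G)).IsGE a := by
    let F₀ := DerivedCategory.Q.objPreimage E
    let e₀ : DCoh.toD _ F₀ ≅ E := DerivedCategory.Q.objObjPreimageIso E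
    obtain ⟨h1, -⟩ := bounds_of_ta (𝟙 _)
      (hasTorAmplitude_of_hasPerfectAmplitudeIn (hasPerfectAmplitudeIn_of_iso e₀.symm hamp))
    exact DerivedCategory.TStructure.t.isGE_of_iso (e₀ ≪≫ eG.symm) a
  haveI : (Φ.obj G).IsGE a := (DerivedCategory.isGE_Q_obj_iff _ a).1 inferInstance
  haveI : IsIso (DerivedCategory.Q.map ((Φ.obj G).πTruncGE a)) :=
    isIso_Q_map _ (inferInstance : QuasiIso ((Φ.obj G).πTruncGE a))
  let eT : DCoh.toD _ T ≅ E := (asIso (DerivedCategory.Q.map ((Φ.obj G).πTruncGE a))).symm ≪≫ eG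
  have hPU : DCoh.IsStrictlyPerfect (Φ.obj P) := isStrictlyPerfect_rd U.ι hP
  let π : Φ.obj P ⟶ T := Φ.map (Stupid.ι G (n + 1)) ≫ (Φ.obj G).πTruncGE a
  have hπ : ∀ i, n + 1 < i → IsIso (homologyMap π i) := fun i hi => by
    haveI : QuasiIsoAt (Φ.map (Stupid.ι G (n + 1))) i := by
      refine QCohD.AffineUnit.quasiIsoAt_of_isIso_f _ i ?_ ?_ ?_
      all_goals
        show IsIso (R.map ((Stupid.ι G (n + 1)).f _))
        first
          | (haveI := Stupid.isIso_ι_f G (n + 1) (i - 1) (by omega); infer_instance)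
          | (haveI := Stupid.isIso_ι_f G (n + 1) i (by omega); infer_instance)
          | (haveI := Stupid.isIso_ι_f G (n + 1) (i + 1) (by omega); infer_instance)
    rw [homologyMap_comp]
    haveI : IsIso (homologyMap (Φ.map (Stupid.ι G (n + 1))) i) := (quasiIsoAt_iff_isIso_homologyMap _ i).1 inferInstance
    infer_instance
  obtain ⟨β, hβ, hT'⟩ := exists_cut hab (hasTorAmplitude_of_hasPerfectAmplitudeIn
    (hasPerfectAmplitudeIn_of_iso eT.symm hamp)) hPU π fun i hi => hπ i (by omega)
  haveI := hβ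
  let T' := (Φ.obj P).truncGE a
  let p : Φ.obj P ⟶ T' := (Φ.obj P).πTruncGE a
  haveI : IsIso (DerivedCategory.Q.map β) := isIso_Q_map _ hβ
  let eT' : DCoh.toD _ T' ≅ E := asIso (DerivedCategory.Q.map β) ≪≫ eT
  let C := mappingCone p
  have hC : DCoh.IsStrictlyPerfect C := isStrictlyPerfect_mappingCone p hPU hT'
  have hPz : ∀ i, n + 1 < i → i < a → IsZero ((Φ.obj P).homology i) := fun i hi hi' => by
    haveI := hπ i hi
    exact (HomologicalComplex.ExactAt.isZero_homology
      (HomologicalComplex.ExactAt.of_isZero (T.isZero_of_isStrictlyGE a i hi'))).of_iso (asIso (homologyMap π i))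
  have hCz : ∀ i, i ≠ n → IsZero (DCoh.HD (DCoh.toD _ C) i) := fun i hi => by
    have hT := DerivedCategory.mappingCone_triangle_distinguished p
    have hq : ∀ j, a ≤ j → IsIso ((DerivedCategory.homologyFunctor _ j).map (DerivedCategory.Q.map p)) :=
      fun j hj => by
        haveI : QuasiIsoAt p j := CochainComplex.quasiIsoAt_πTruncGE (Φ.obj P) a j hj
        exact (NatIso.isIso_map_iff (DerivedCategory.homologyFunctorFactors _ j) _).2
          ((quasiIsoAt_iff_isIso_homologyMap p j).1 inferInstance)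
    have hlow : ∀ j, j < a → IsZero (DCoh.HD (DCoh.toD _ T') j) := fun j hj =>
      ((HomologicalComplex.ExactAt.of_isZero (T'.isZero_of_isStrictlyGE a j hj)).isZero_homology).of_iso
        ((DerivedCategory.homologyFunctorFactors _ j).app T')
    have hPlow : ∀ j, j ≠ n + 1 → j < a → IsZero (DCoh.HD (DCoh.toD _ (Φ.obj P)) j) := fun j hj hj' => by
      refine IsZero.of_iso ?_ ((DerivedCategory.homologyFunctorFactors _ j).app (Φ.obj P))
      rcases lt_or_gt_of_ne hj with h | h
      · exact HomologicalComplex.ExactAt.isZero_homology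
          (HomologicalComplex.ExactAt.of_isZero (R.map_isZero (Stupid.isZero_X G (n + 1) j h)))
      · exact hPz j h hj'
    refine (DerivedCategory.HomologySequence.exact₃ _ hT i (i + 1) rfl).isZero_of_both_zeros ?_ ?_
    · rcases lt_or_ge i a with h | h
      · exact (hlow i h).eq_of_src _ _
      · haveI := hq i h
        exact (DerivedCategory.HomologySequence.exact₂ _ hT i).epi_f_iff.1
          (inferInstanceAs (Epi ((DerivedCategory.homologyFunctor _ i).map (DerivedCategory.Q.map p))))
    · rcases lt_or_ge (i + 1) a with h | h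
      · exact (hPlow (i + 1) (by omega) h).eq_of_tgt _ _
      · haveI := hq (i + 1) h
        exact (DerivedCategory.HomologySequence.exact₁ _ hT i (i + 1) rfl).mono_g_iff.1
          (inferInstanceAs (Mono ((DerivedCategory.homologyFunctor _ (i + 1)).map (DerivedCategory.Q.map p))))
  have hCh : ∀ i, i ≠ n → IsZero (C.homology i) := fun i hi =>
    (hCz i hi).of_iso ((DerivedCategory.homologyFunctorFactors _ i).app C).symm
  have hCn : IsZero (C.X (n - 1)) := by
    refine IsZero.of_iso ?_ (homotopyCofiber.XIsoBiprod p (n - 1) (n - 1 + 1) rfl)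
    rw [biprod_isZero_iff]
    exact ⟨R.map_isZero (Stupid.isZero_X G (n + 1) _ (by omega)), T'.isZero_of_isStrictlyGE a _ (by omega)⟩
  have hF : FlatMod.IsFinLocFree (C.homology n) := by
    haveI : IsIso (C.homologyπ n) := C.isIso_homologyπ (n - 1) n (by simp) (hCn.eq_of_src _ _)
    exact isFinLocFree_of_iso (asIso (C.homologyπ n)) (isFinLocFree_cycles hC n (fun i hi => hCh i (by omega)) n le_rfl)
  haveI : (DCoh.toD _ C).IsGE n := by
    rw [DerivedCategory.isGE_iff]; intro i hi; exact hCz i (by omega)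
  haveI : (DCoh.toD _ C).IsLE n := by
    rw [DerivedCategory.isLE_iff]; intro i hi; exact hCz i (by omega)
  obtain ⟨F, ⟨eC⟩⟩ := (DCoh.toD _ C).exists_iso_singleFunctor_obj_of_isGE_of_isLE n
  let eF : F ≅ C.homology n :=
    ((DerivedCategory.singleFunctorCompHomologyFunctorIso _ n).app F).symm ≪≫
      (DerivedCategory.homologyFunctor _ n).mapIso eC.symm ≪≫ (DerivedCategory.homologyFunctorFactors _ n).app C
  have hF' : FlatMod.IsFinLocFree F := isFinLocFree_of_iso eF.symm hF
  have hz : (DerivedCategory.Q.mapTriangle.obj (mappingCone.triangle p)).mor₂ = 0 := by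
    refine (cancel_epi eT'.inv).1 (Eq.trans ?_ comp_zero.symm)
    exact hc _ (Dual.isQCohD_of_isPerfect (isPerfect_toD hC)) n (by omega) inferInstance _
  have hTd := inv_rot_of_distTriang _ (DerivedCategory.mappingCone_triangle_distinguished p)
  obtain ⟨θ, -, -⟩ := exists_iso_binaryBiproduct_of_distTriang _ hTd (by
    simp only [Triangle.invRotate_mor₃]
    rw [hz, zero_comp])
  refine ⟨n + 1, F, P, hF', isPerfect_toD hP, ⟨θ ≪≫ biprod.mapIso ?_ eT'⟩⟩
  exact (CategoryTheory.shiftFunctor _ (-1 : ℤ)).mapIso eC ≪≫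
    ((DerivedCategory.singleFunctors _).shiftIso (-1) (n + 1) n (by omega)).app F ≪≫
    (((DerivedCategory.singleFunctors _).shiftIso (-(n + 1)) (n + 1) 0 (by omega)).app F).symm

end Groth.Agent.H16Derived.QRep
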