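import Mathlib.Algebra.Homology.HomotopyCategory.MappingCone
import Mathlib.Algebra.Homology.HomotopyCategory.HomComplexSingle
import Mathlib.Algebra.Homology.Refinements
import Mathlib.Algebra.Homology.HomotopyCategory.Pretriangulated
import Mathlib.Algebra.Homology.QuasiIso
import Mathlib.Algebra.Homology.HomologicalComplexAbelian
import Mathlib.Algebra.Homology.Embedding.CochainComplex
import Mathlib.Tactic.Abel
import Mathlib.CategoryTheory.Functor.OfSequence
import Groth.Agent.H16Derived.QRep.Gen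

/-!
# Resolving a complex from above, relative to a class of negligible objects
-/

set_option autoImplicit false
set_option linter.style.haveILetI false
set_option backward.isDefEq.respectTransparency false

universe v u

open CategoryTheory CategoryTheory.Limits HomologicalComplex CochainComplex CochainComplex.HomComplex

namespace Groth.Agent.H16Derived.QRep.Rel

variable {A : Type u} [Category.{v} A] [Abelian A]

/-- A stage: terms in `P`, in degrees `≥ m`, cone cohomology negligible in degrees `≥ m`. -/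
structure IsSt (S P : A → Prop) {E F : CochainComplex A ℤ} (φ : E ⟶ F) (m : ℤ) : Prop where
  ge : E.IsStrictlyGE m
  mem : ∀ i, P (E.X i)
  cone : ∀ i, m ≤ i → S ((mappingCone φ).homology i)

/-- The step. -/
theorem exists_step (S P : A → Prop) (hS : ∀ {X Y : A} (p : X ⟶ Y) [Epi p], S X → S Y)
    (hiso : ∀ {X Y : A} (_ : X ≅ Y), P X → P Y)
    {E F : CochainComplex A ℤ} (φ : E ⟶ F) (n : ℤ) (h : IsSt S P φ (n + 1)) (b₀ : ℤ) (hb : n ≤ b₀)
    [E.IsStrictlyLE b₀] {L : A} (hL : P L) (ℓ : L ⟶ (mappingCone φ).cycles n)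
    (hℓ : S (cokernel (ℓ ≫ (mappingCone φ).homologyπ n))) :
    ∃ (E' : CochainComplex A ℤ) (u : E ⟶ E') (φ' : E' ⟶ F), IsSt S P φ' n ∧ E'.IsStrictlyLE b₀ ∧
      u ≫ φ' = φ ∧ ∀ i, n < i → IsIso (u.f i) := by
  haveI := h.ge
  obtain ⟨a, b, hy, had, hab⟩ := cycle_components φ n ℓ
  let Sg := (CochainComplex.singleFunctor A (n + 1)).obj L
  let ψ : Sg ⟶ E := HomologicalComplex.mkHomFromSingle a (fun k hk => by
    obtain rfl : n + 2 = k := by simp at hk; omega
    exact had)
  have hψ : ψ.f (n + 1) = (singleObjXSelf (ComplexShape.up ℤ) (n + 1) L).hom ≫ a :=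
    HomologicalComplex.mkHomFromSingle_f _ _
  let α : Cochain Sg F (-1) := Cochain.fromSingleMk (-b) (show (n + 1) + (-1) = n by omega)
  have hα : δ (-1) 0 α = Cochain.ofHom (ψ ≫ φ) := by
    rw [Cochain.δ_fromSingleMk (-b) (show (n + 1) + (-1) = n by omega) 0 (n + 1) (by omega)]
    apply (Cochain.fromSingleEquiv (show (n + 1) + 0 = n + 1 by omega)).injective
    rw [Cochain.fromSingleEquiv_fromSingleMk]
    simp only [Cochain.fromSingleEquiv, AddEquiv.coe_mk, Equiv.coe_fn_mk, Cochain.ofHom_v, comp_f, hψ]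
    rw [Category.assoc, Iso.inv_hom_id_assoc, Preadditive.neg_comp]
    exact neg_eq_of_add_eq_zero_left hab
  let E' := mappingCone ψ
  let φ' : E' ⟶ F := mappingCone.desc ψ α φ hα
  let u : E ⟶ E' := mappingCone.inr ψ
  have hu : u ≫ φ' = φ := mappingCone.inr_desc _ _ _ _
  have hSg : ∀ i, i ≠ n + 1 → IsZero (Sg.X i) := fun i hi =>
    HomologicalComplex.isZero_single_obj_X (ComplexShape.up ℤ) (n + 1) L i hi
  have huf : ∀ i, i ≠ n → IsIso (u.f i) := fun i hi =>
    ⟨(mappingCone.snd ψ).v i i (add_zero i), mappingCone.inr_f_snd_v ψ i, by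
      rw [mappingCone.ext_from_iff ψ (i + 1) i rfl]
      exact ⟨(hSg (i + 1) (by omega)).eq_of_src _ _, by simp only [u, mappingCone.inr_f_snd_v_assoc]; exact (Category.comp_id _).symm⟩⟩
  haveI hge : E'.IsStrictlyGE n := (CochainComplex.isStrictlyGE_iff _ _).2 fun i hi => by
    haveI := huf i (by omega)
    exact IsZero.of_iso (E.isZero_of_isStrictlyGE (n + 1) i (by omega)) (asIso (u.f i)).symm
  haveI hle : E'.IsStrictlyLE b₀ := (CochainComplex.isStrictlyLE_iff _ _).2 fun i hi => by
    haveI := huf i (by omega)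
    exact IsZero.of_iso (E.isZero_of_isStrictlyLE b₀ i (by omega)) (asIso (u.f i)).symm
  have hEn : IsZero (E.X n) := E.isZero_of_isStrictlyGE (n + 1) n (by omega)
  let l : L ⟶ E'.X n := (singleObjXSelf (ComplexShape.up ℤ) (n + 1) L).inv ≫
    (mappingCone.inl ψ).v (n + 1) n (by omega)
  have hld : l ≫ E'.d n (n + 1) = a ≫ u.f (n + 1) := by
    have h0 : Sg.d (n + 1) (n + 2) = 0 := (hSg (n + 2) (by omega)).eq_of_tgt _ _
    simp only [l, u, Category.assoc]
    erw [mappingCone.inl_v_d ψ (n + 1) n (n + 2) (by omega) (by omega)]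
    rw [h0, zero_comp, sub_zero, hψ, Category.assoc, Iso.inv_hom_id_assoc]
  have hlφ : l ≫ φ'.f n = -b := by
    simp [l, φ', α, mappingCone.inl_v_desc_f]
  have hEn' : P (E'.X n) := by
    haveI : IsIso l := ⟨(mappingCone.fst ψ).1.v n (n + 1) rfl ≫ (singleObjXSelf (ComplexShape.up ℤ) (n + 1) L).hom,
      by simp [l], by
        rw [mappingCone.ext_from_iff ψ (n + 1) n rfl]
        refine ⟨?_, hEn.eq_of_src _ _⟩
        simp [l]
        exact (Category.comp_id _).symm⟩
    exact hiso (asIso l) hL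
  have hmem : ∀ i, P (E'.X i) := fun i => by
    rcases eq_or_ne i n with rfl | hi
    · exact hEn'
    · haveI := huf i hi
      exact hiso (asIso (u.f i)) (h.mem i)
  let v : mappingCone φ ⟶ mappingCone φ' := mappingCone.map φ φ' u (𝟙 F) (by rw [Category.comp_id, hu])
  have hv : ∀ i, n ≤ i → IsIso (v.f i) := fun i hi => by
    haveI := huf (i + 1) (by omega)
    refine ⟨(mappingCone.fst φ').1.v i (i + 1) rfl ≫ inv (u.f (i + 1)) ≫ (mappingCone.inl φ).v (i + 1) i (by omega) +
      (mappingCone.snd φ').v i i (add_zero i) ≫ (mappingCone.inr φ).f i, ?_, ?_⟩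
    · rw [mappingCone.ext_from_iff φ (i + 1) i rfl]
      constructor <;> simp [v, mappingCone.map] <;> exact (Category.comp_id _).symm
    · rw [mappingCone.ext_from_iff φ' (i + 1) i rfl]
      constructor <;> simp [v, mappingCone.map] <;> exact (Category.comp_id _).symm
  have hepi : ∀ i, n ≤ i → Epi (homologyMap v i) := fun i hi => by
    rw [epi_homologyMap_iff_up_to_refinements v (i - 1) i (i + 1) (by simp) (by simp)]
    intro W y hy0
    haveI := hv i hi
    haveI := hv (i + 1) (by omega)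
    refine ⟨W, 𝟙 W, inferInstance, y ≫ inv (v.f i), ?_, 0, by simp⟩
    rw [← cancel_mono (v.f (i + 1)), Category.assoc, Category.assoc, ← v.comm, IsIso.inv_hom_id_assoc, hy0,
      zero_comp]
  refine ⟨E', u, φ', ⟨hge, hmem, fun i hi => ?_⟩, hle, hu, fun i hi => huf i (by omega)⟩
  rcases lt_or_eq_of_le hi with hi' | rfl
  · haveI := hepi i hi
    exact hS (homologyMap v i) (h.cone i (by omega))
  · haveI := hepi n le_rfl
    have w : (ℓ ≫ (mappingCone φ).homologyπ n) ≫ homologyMap v n = 0 := by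
      rw [Category.assoc, HomologicalComplex.homologyπ_naturality, ← Category.assoc,
        (mappingCone φ').comp_homologyπ_eq_zero_iff_up_to_refinements (n - 1) n (by simp)]
      refine ⟨L, 𝟙 L, inferInstance, -(l ≫ (mappingCone.inl φ').v n (n - 1) (by omega)), ?_⟩
      rw [← cancel_mono ((mappingCone φ').iCycles n), Category.id_comp, Category.assoc, cyclesMap_i,
        reassoc_of% hy, Category.assoc, toCycles_i, Preadditive.neg_comp, Category.assoc,
        mappingCone.inl_v_d φ' n (n - 1) (n + 1) (by omega) (by omega), Preadditive.comp_sub, reassoc_of% hlφ,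
        reassoc_of% hld, Preadditive.add_comp, Category.assoc, Category.assoc, Preadditive.neg_comp]
      simp [v, mappingCone.map]
    let q := cokernel.desc _ (homologyMap v n) w
    haveI : Epi (cokernel.π (ℓ ≫ (mappingCone φ).homologyπ n) ≫ q) := by
      rw [cokernel.π_desc]; exact hepi n le_rfl
    haveI : Epi q := epi_of_epi (cokernel.π (ℓ ≫ (mappingCone φ).homologyπ n)) q
    exact hS q hℓ

/-- The top cohomology of every cone of a stage is covered by an object of `P` through cycles. -/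
def CanStep (S P : A → Prop) (F : CochainComplex A ℤ) (b₀ : ℤ) : Prop :=
  ∀ (E : CochainComplex A ℤ) (φ : E ⟶ F) (n : ℤ), n ≤ b₀ → IsSt S P φ (n + 1) → E.IsStrictlyLE b₀ →
    ∃ (L : A) (ℓ : L ⟶ (mappingCone φ).cycles n), P L ∧ S (cokernel (ℓ ≫ (mappingCone φ).homologyπ n))

variable (S P : A → Prop) (F : CochainComplex A ℤ) (b₀ : ℤ)

/-- The stage after `k` steps. -/
structure Stg (k : ℕ) where
  E : CochainComplex A ℤ
  φ : E ⟶ F
  st : IsSt S P φ (b₀ + 1 - k)
  le : E.IsStrictlyLE b₀

variable {S P F b₀}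

theorem nonempty_stg_zero (hS : ∀ {X Y : A} (p : X ⟶ Y) [Epi p], S X → S Y) (h0 : ∀ Z : A, IsZero Z → P Z)
    (hF : ∀ i, b₀ < i → S (F.homology i)) : Nonempty (Stg S P F b₀ 0) := by
  obtain ⟨E, hE⟩ := HasZeroObject.zero (C := CochainComplex A ℤ)
  have hX : ∀ i, IsZero (E.X i) := fun i =>
    (HomologicalComplex.eval A (ComplexShape.up ℤ) i).map_isZero hE
  refine ⟨⟨E, 0, ⟨(CochainComplex.isStrictlyGE_iff _ _).2 fun i _ => hX i, fun i => h0 _ (hX i), fun i hi => ?_⟩,
    (CochainComplex.isStrictlyLE_iff _ _).2 fun i _ => hX i⟩⟩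
  haveI : ∀ j, IsIso ((mappingCone.inr (0 : E ⟶ F)).f j) := fun j =>
    ⟨(mappingCone.snd _).v j j (add_zero j), mappingCone.inr_f_snd_v _ j, by
      rw [mappingCone.ext_from_iff _ (j + 1) j rfl]
      exact ⟨(hX _).eq_of_src _ _, by simp only [mappingCone.inr_f_snd_v_assoc]; exact (Category.comp_id _).symm⟩⟩
  haveI : IsIso (mappingCone.inr (0 : E ⟶ F)) := HomologicalComplex.Hom.isIso_of_components _
  haveI : Epi (homologyMap (mappingCone.inr (0 : E ⟶ F)) i) :=
    inferInstanceAs (Epi ((HomologicalComplex.homologyFunctor A _ i).map _))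
  exact hS (homologyMap (mappingCone.inr (0 : E ⟶ F)) i) (hF i (by omega))

theorem exists_next (hS : ∀ {X Y : A} (p : X ⟶ Y) [Epi p], S X → S Y) (hiso : ∀ {X Y : A} (_ : X ≅ Y), P X → P Y) (hF : CanStep S P F b₀) {k : ℕ} (s : Stg S P F b₀ k) :
    ∃ (s' : Stg S P F b₀ (k + 1)) (u : s.E ⟶ s'.E), u ≫ s'.φ = s.φ ∧ ∀ i, b₀ - k < i → IsIso (u.f i) := by
  haveI := s.le
  have hst : IsSt S P s.φ (b₀ - k + 1) := by
    rw [show b₀ - (k : ℤ) + 1 = b₀ + 1 - k by omega]; exact s.st
  obtain ⟨L, ℓ, hL, hℓ⟩ := hF s.E s.φ (b₀ - k) (by omega) hst s.le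
  obtain ⟨E', u, φ', h1, h2, h3, h4⟩ := exists_step S P hS hiso s.φ (b₀ - k) hst b₀ (by omega) hL ℓ hℓ
  exact ⟨⟨E', φ', by rw [show b₀ + 1 - ((k + 1 : ℕ) : ℤ) = b₀ - k by omega]; exact h1, h2⟩, u, h3, h4⟩

/-- The infinite resolution. -/
theorem exists_resolution (hS : ∀ {X Y : A} (p : X ⟶ Y) [Epi p], S X → S Y) (hiso : ∀ {X Y : A} (_ : X ≅ Y), P X → P Y) (h0 : ∀ Z : A, IsZero Z → P Z)
    (hF : ∀ i, b₀ < i → S (F.homology i)) (hs : CanStep S P F b₀) :
    ∃ (E : CochainComplex A ℤ) (φ : E ⟶ F), E.IsStrictlyLE b₀ ∧ (∀ i, P (E.X i)) ∧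
      ∀ i, S ((mappingCone φ).homology i) := by
  choose next u hu hu' using fun (k : ℕ) (s : Stg S P F b₀ k) => exists_next hS hiso hs s
  let St : ∀ k : ℕ, Stg S P F b₀ k := Nat.rec (nonempty_stg_zero hS h0 hF).some fun k s => next k s
  let G : ℕ ⥤ CochainComplex A ℤ := Functor.ofSequence (X := fun k => (St k).E) fun k => u k (St k)
  let T : ∀ {k l : ℕ}, k ≤ l → ((St k).E ⟶ (St l).E) := fun h => G.map (homOfLE h)
  have hTφ : ∀ (l k : ℕ) (h : k ≤ l), T h ≫ (St l).φ = (St k).φ := by
    intro l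
    induction l with
    | zero =>
      intro k h
      obtain rfl : k = 0 := by omega
      exact (congrArg (· ≫ (St 0).φ) (G.map_id 0)).trans (Category.id_comp _)
    | succ l ih =>
      intro k h
      rcases Nat.lt_or_ge l k with h' | h'
      · obtain rfl : k = l + 1 := by omega
        exact (congrArg (· ≫ (St (l + 1)).φ) (G.map_id (l + 1))).trans (Category.id_comp _)
      · have e : T h = T h' ≫ u l (St l) := by
          show G.map _ = G.map _ ≫ _
          rw [← homOfLE_comp h' (Nat.le_succ l), G.map_comp, Functor.ofSequence_map_homOfLE_succ]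
        rw [e, Category.assoc]
        exact (congrArg (T h' ≫ ·) (hu l (St l))).trans (ih k h')
  have hTiso : ∀ (l k : ℕ) (h : k ≤ l) (i : ℤ), b₀ - k < i → IsIso ((T h).f i) := by
    intro l
    induction l with
    | zero =>
      intro k h i _
      obtain rfl : k = 0 := by omega
      rw [show T h = 𝟙 _ from G.map_id 0]
      infer_instance
    | succ l ih =>
      intro k h i hi
      rcases Nat.lt_or_ge l k with h' | h'
      · obtain rfl : k = l + 1 := by omega
        rw [show T h = 𝟙 _ from G.map_id (l + 1)]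
        infer_instance
      · have e : T h = T h' ≫ u l (St l) := by
          show G.map _ = G.map _ ≫ _
          rw [← homOfLE_comp h' (Nat.le_succ l), G.map_comp, Functor.ofSequence_map_homOfLE_succ]
        haveI := ih k h' i hi
        haveI := hu' l (St l) i (by omega)
        rw [e, HomologicalComplex.comp_f]
        infer_instance
  have hTT : ∀ {p q r : ℕ} (h : p ≤ q) (h' : q ≤ r), T h ≫ T h' = T (h.trans h') := fun h h' => by
    show G.map _ ≫ G.map _ = G.map _
    rw [← G.map_comp, homOfLE_comp]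
  let j : ℤ → ℕ := fun i => (b₀ + 1 - i).toNat
  have hj : ∀ i, b₀ - (j i : ℕ) < i := fun i => by simp only [j]; omega
  have hj' : ∀ i, j (i + 1) ≤ j i := fun i => by simp only [j]; omega
  haveI hTj : ∀ i, IsIso ((T (hj' i)).f (i + 1)) := fun i => hTiso _ _ _ _ (by have := hj (i + 1); omega)
  let X : ℤ → A := fun i => (St (j i)).E.X i
  let d : ∀ i, X i ⟶ X (i + 1) := fun i => (St (j i)).E.d i (i + 1) ≫ inv ((T (hj' i)).f (i + 1))
  -- the comparison with a finite stage
  let ψ : ∀ (i : ℤ) (l : ℕ), j i ≤ l → (X i ⟶ (St l).E.X i) := fun i l h => (T h).f i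
  have hψ : ∀ (i : ℤ) (l : ℕ) (h : j i ≤ l), d i ≫ ψ (i + 1) l ((hj' i).trans h) = ψ i l h ≫ (St l).E.d i (i + 1) := by
    intro i l h
    simp only [d, ψ, ← hTT (hj' i) h, HomologicalComplex.comp_f, Category.assoc, IsIso.inv_hom_id_assoc]
    exact ((T h).comm i (i + 1)).symm
  have dd : ∀ i, d i ≫ d (i + 1) = 0 := fun i => by
    haveI := hTiso (j i) (j (i + 1 + 1)) ((hj' (i + 1)).trans (hj' i)) (i + 1 + 1) (by have := hj (i + 1 + 1); omega)
    rw [← cancel_mono (ψ (i + 1 + 1) (j i) ((hj' (i + 1)).trans (hj' i))), Category.assoc,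
      hψ (i + 1) (j i) (hj' i), ← Category.assoc, hψ i (j i) le_rfl, Category.assoc,
      HomologicalComplex.d_comp_d, comp_zero, zero_comp]
  let E : CochainComplex A ℤ := CochainComplex.of X d dd
  let φ : E ⟶ F :=
    { f := fun i => (St (j i)).φ.f i
      comm' := fun i k hik => by
        obtain rfl : i + 1 = k := hik
        have e : E.d i (i + 1) = d i := CochainComplex.of_d X d i
        rw [e]
        have hφ' := congrArg (fun t : _ ⟶ F => t.f (i + 1)) (hTφ (j i) (j (i + 1)) (hj' i))
        show (St (j i)).φ.f i ≫ F.d i (i + 1) = ((St (j i)).E.d i (i + 1) ≫ inv ((T (hj' i)).f (i + 1))) ≫ (St (j (i + 1))).φ.f (i + 1)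
        rw [← hφ', HomologicalComplex.comp_f, Category.assoc, IsIso.inv_hom_id_assoc, (St (j i)).φ.comm] }
  refine ⟨E, φ, ?_, fun i => (St (j i)).st.mem i, fun m => ?_⟩
  · rw [CochainComplex.isStrictlyLE_iff]
    intro i hi
    haveI := (St (j i)).le
    exact (St (j i)).E.isZero_of_isStrictlyLE b₀ i hi
  · let l := (b₀ + 2 - m).toNat
    have hl : ∀ i, m - 1 ≤ i → j i ≤ l := fun i hi => by simp only [j, l]; omega
    haveI hψi : ∀ i (hi : m - 1 ≤ i), IsIso (ψ i l (hl i hi)) := fun i hi => hTiso _ _ _ _ (hj i)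
    -- the map from the finite stage
    let α : ∀ i, (St l).E.X i ⟶ X i := fun i =>
      if hi : m - 1 ≤ i then haveI := hψi i hi; inv (ψ i l (hl i hi)) else 0
    have hz : ∀ i, i < m - 1 → IsZero ((St l).E.X i) := fun i hi => by
      rcases lt_or_ge b₀ i with hb | hb
      · haveI := (St l).le
        exact (St l).E.isZero_of_isStrictlyLE b₀ i hb
      · haveI := (St l).st.ge
        exact (St l).E.isZero_of_isStrictlyGE (b₀ + 1 - l) i (by simp only [l]; omega)
    let θ : (St l).E ⟶ E :=
      { f := α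
        comm' := fun i k hik => by
          obtain rfl : i + 1 = k := hik
          have e : E.d i (i + 1) = d i := CochainComplex.of_d X d i
          rw [e]
          by_cases hi : m - 1 ≤ i
          · simp only [α, dif_pos hi, dif_pos (show m - 1 ≤ i + 1 by omega)]
            haveI := hψi i hi
            haveI := hψi (i + 1) (by omega)
            rw [IsIso.inv_comp_eq, ← Category.assoc, IsIso.eq_comp_inv]
            exact hψ i l (hl i hi)
          · exact (hz i (by omega)).eq_of_src _ _ }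
    have hθ : θ ≫ φ = (St l).φ := HomologicalComplex.hom_ext _ _ fun i => by
      by_cases hi : m - 1 ≤ i
      · show α i ≫ (St (j i)).φ.f i = _
        simp only [α, dif_pos hi]
        haveI := hψi i hi
        rw [IsIso.inv_comp_eq]
        exact (congrArg (fun t : _ ⟶ F => t.f i) (hTφ l (j i) (hl i hi))).symm
      · exact (hz i (by omega)).eq_of_src _ _
    have hα : ∀ i, m - 1 ≤ i → IsIso (θ.f i) := fun i hi => by
      show IsIso (α i)
      simp only [α, dif_pos hi]
      haveI := hψi i hi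
      infer_instance
    let w : mappingCone (St l).φ ⟶ mappingCone φ := mappingCone.map _ _ θ (𝟙 F) (by rw [Category.comp_id, hθ])
    have hw : ∀ i, m - 1 ≤ i + 1 → IsIso (w.f i) := fun i hi => by
      haveI := hα (i + 1) hi
      refine ⟨(mappingCone.fst φ).1.v i (i + 1) rfl ≫ inv (θ.f (i + 1)) ≫ (mappingCone.inl (St l).φ).v (i + 1) i (by omega) +
        (mappingCone.snd φ).v i i (add_zero i) ≫ (mappingCone.inr (St l).φ).f i, ?_, ?_⟩
      · rw [mappingCone.ext_from_iff _ (i + 1) i rfl]
        constructor <;> simp [w, mappingCone.map] <;> exact (Category.comp_id _).symm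
      · rw [mappingCone.ext_from_iff _ (i + 1) i rfl]
        constructor <;> simp [w, mappingCone.map] <;> exact (Category.comp_id _).symm
    haveI : Epi (homologyMap w m) := by
      rw [epi_homologyMap_iff_up_to_refinements w (m - 1) m (m + 1) (by simp) (by simp)]
      intro W y hy0
      haveI := hw m (by omega)
      haveI := hw (m + 1) (by omega)
      refine ⟨W, 𝟙 W, inferInstance, y ≫ inv (w.f m), ?_, 0, by simp⟩
      rw [← cancel_mono (w.f (m + 1)), Category.assoc, Category.assoc, ← w.comm, IsIso.inv_hom_id_assoc, hy0,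
        zero_comp]
    exact hS (homologyMap w m) ((St l).st.cone m (by simp only [l]; omega))

end Groth.Agent.H16Derived.QRep.Rel
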