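import Groth.Agent.H16Derived.QRep.Main
import Groth.Agent.H16Derived.DMinus.Equiv
import Groth.Agent.H16Derived.KFlat.StrictPerfCone
import Mathlib.Algebra.Homology.HomotopyCategory.MappingCocone

/-!
# Roofs of strictly perfect complexes
-/

set_option autoImplicit false
set_option linter.style.haveILetI false
set_option backward.isDefEq.respectTransparency false

universe u

open CategoryTheory CategoryTheory.Limits AlgebraicGeometry HomologicalComplex CochainComplex
  CategoryTheory.Pretriangulated CochainComplex.HomComplex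

attribute [local instance] HasDerivedCategory.standard

namespace Groth.Agent.H16Derived.QRep

open Groth.Agent.H16Derived.KFlat Groth.Agent.H16Derived.KFlat.Stalk

variable {X : Scheme.{u}} [CompactSpace X] [QuasiSeparatedSpace X]

omit [QuasiSeparatedSpace X] in
/-- Morphisms between bounded complexes of quasi-coherent modules are roofs of such complexes. -/
theorem exists_qcoh_roof (hd : ∀ U V : X.Opens, IsAffineOpen U → IsAffineOpen V → IsAffineOpen (U ⊓ V))
    (E F : CochainComplex X.Modules ℤ) (hEq : ∀ i, Coh.IsQCoh (E.X i)) (hFq : ∀ i, Coh.IsQCoh (F.X i))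
    (a b : ℤ) [E.IsStrictlyGE a] [E.IsStrictlyLE b] [F.IsStrictlyGE a] [F.IsStrictlyLE b]
    (α : DCoh.toD X E ⟶ DCoh.toD X F) :
    ∃ (L : CochainComplex X.Modules ℤ) (s : L ⟶ E) (g : L ⟶ F), L.IsStrictlyGE a ∧ L.IsStrictlyLE b ∧
      (∀ i, Coh.IsQCoh (L.X i)) ∧ QuasiIso s ∧ DerivedCategory.Q.map s ≫ α = DerivedCategory.Q.map g := by
  let q := qc X
  haveI : q.ContainsZero := inferInstanceAs ((QCohCat.isQCoh X).ContainsZero)
  haveI : q.IsClosedUnderKernels := inferInstanceAs ((QCohCat.isQCoh X).IsClosedUnderKernels)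
  haveI : q.IsClosedUnderCokernels := inferInstanceAs ((QCohCat.isQCoh X).IsClosedUnderCokernels)
  haveI : q.IsClosedUnderFiniteProducts := inferInstanceAs ((QCohCat.isQCoh X).IsClosedUnderFiniteProducts)
  haveI := q.preservesKernels_ι
  haveI := q.preservesCokernels_ι
  haveI : PreservesFiniteLimits q.ι := Functor.preservesFiniteLimits_of_preservesKernels _
  haveI : PreservesFiniteColimits q.ι := Functor.preservesFiniteColimits_of_preservesCokernels _
  letI := HasDerivedCategory.standard q.FullSubcategory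
  haveI : EnoughInjectives q.FullSubcategory := Groth.Agent.S7445.result X
  obtain ⟨E', ⟨eE⟩⟩ := MinusEquiv.exists_lift_complex q.ι E (fun i => ⟨⟨_, hEq i⟩, ⟨Iso.refl _⟩⟩)
  obtain ⟨F', ⟨eF⟩⟩ := MinusEquiv.exists_lift_complex q.ι F (fun i => ⟨⟨_, hFq i⟩, ⟨Iso.refl _⟩⟩)
  let M := q.ι.mapHomologicalComplex (ComplexShape.up ℤ)
  have hge : ∀ (A : CochainComplex X.Modules ℤ) (A' : CochainComplex q.FullSubcategory ℤ) (_ : M.obj A' ≅ A)
      [A.IsStrictlyGE a], A'.IsStrictlyGE a := fun A A' e _ => (CochainComplex.isStrictlyGE_iff _ _).2 fun i hi =>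
    (IsZero.iff_id_eq_zero _).2 (q.ι.map_injective
      (((A.isZero_of_isStrictlyGE a i hi).of_iso ((HomologicalComplex.eval _ _ i).mapIso e)).eq_of_src _ _))
  have hle : ∀ (A : CochainComplex X.Modules ℤ) (A' : CochainComplex q.FullSubcategory ℤ) (_ : M.obj A' ≅ A)
      [A.IsStrictlyLE b], A'.IsStrictlyLE b := fun A A' e _ => (CochainComplex.isStrictlyLE_iff _ _).2 fun i hi =>
    (IsZero.iff_id_eq_zero _).2 (q.ι.map_injective
      (((A.isZero_of_isStrictlyLE b i hi).of_iso ((HomologicalComplex.eval _ _ i).mapIso e)).eq_of_src _ _))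
  haveI := hge E E' eE
  haveI := hle E E' eE
  haveI := hge F F' eF
  haveI := hle F F' eF
  let φ := q.ι.mapDerivedCategoryFactors
  obtain ⟨α', hα'⟩ := surjective_bounded (acyclicInj hd) (DerivedCategory.Q.obj E') (DerivedCategory.Q.obj F') a b
    inferInstance inferInstance inferInstance inferInstance
    ((φ.app E').hom ≫ DerivedCategory.Q.map eE.hom ≫ α ≫ DerivedCategory.Q.map eF.inv ≫ (φ.app F').inv)
  obtain ⟨L, hLa, hLb, s, hs, g, rfl⟩ :=
    DerivedCategory.right_fac_of_isStrictlyLE_of_isStrictlyGE a b α'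
  refine ⟨M.obj L, M.map s ≫ eE.hom, M.map g ≫ eF.hom, ?_, ?_, fun i => (L.X i).property, ?_, ?_⟩
  · exact (CochainComplex.isStrictlyGE_iff _ _).2 fun i hi => q.ι.map_isZero (L.isZero_of_isStrictlyGE a i hi)
  · exact (CochainComplex.isStrictlyLE_iff _ _).2 fun i hi => q.ι.map_isZero (L.isZero_of_isStrictlyLE b i hi)
  · haveI := hs
    haveI : QuasiIso s := (DerivedCategory.isIso_Q_map_iff_quasiIso _ s).1 hs
    haveI : QuasiIso (M.map s) := inferInstance
    infer_instance
  · haveI := hs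
    have h1 : q.ι.mapDerivedCategory.map (DerivedCategory.Q.map s) ≫
        q.ι.mapDerivedCategory.map (inv (DerivedCategory.Q.map s) ≫ DerivedCategory.Q.map g) =
        q.ι.mapDerivedCategory.map (DerivedCategory.Q.map g) := by
      rw [← Functor.map_comp, IsIso.hom_inv_id_assoc]
    have nat : ∀ {A B : CochainComplex q.FullSubcategory ℤ} (f : A ⟶ B),
        DerivedCategory.Q.map (M.map f) =
          φ.inv.app A ≫ q.ι.mapDerivedCategory.map (DerivedCategory.Q.map f) ≫ φ.hom.app B := fun {A B} f =>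
      ((Iso.eq_inv_comp (φ.app A)).2 (φ.hom.naturality f).symm)
    replace hα' : q.ι.mapDerivedCategory.map (inv (DerivedCategory.Q.map s) ≫ DerivedCategory.Q.map g) =
      φ.hom.app E' ≫ DerivedCategory.Q.map eE.hom ≫ α ≫ DerivedCategory.Q.map eF.inv ≫ φ.inv.app F' := hα'
    rw [hα'] at h1
    rw [Functor.map_comp, Functor.map_comp, nat s, nat g, ← h1]
    simp only [Category.assoc]
    erw [Iso.inv_hom_id_app_assoc]
    rw [← Functor.map_comp, eF.inv_hom_id, CategoryTheory.Functor.map_id]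
    erw [Category.comp_id]

omit [CompactSpace X] [QuasiSeparatedSpace X] in
theorem bounds {E F : CochainComplex X.Modules ℤ} (hE : DCoh.IsStrictlyPerfect E)
    (hF : DCoh.IsStrictlyPerfect F) : ∃ a b : ℤ, (E.IsStrictlyGE a ∧ E.IsStrictlyLE b) ∧
      F.IsStrictlyGE a ∧ F.IsStrictlyLE b := by
  obtain ⟨⟨a₁, b₁, h₁⟩, -⟩ := hE
  obtain ⟨⟨a₂, b₂, h₂⟩, -⟩ := hF
  refine ⟨min a₁ a₂, max b₁ b₂, ⟨?_, ?_⟩, ?_, ?_⟩
  all_goals first
    | exact (CochainComplex.isStrictlyGE_iff _ _).2 fun i hi => h₁ i (Or.inl (by omega))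
    | exact (CochainComplex.isStrictlyLE_iff _ _).2 fun i hi => h₁ i (Or.inr (by omega))
    | exact (CochainComplex.isStrictlyGE_iff _ _).2 fun i hi => h₂ i (Or.inl (by omega))
    | exact (CochainComplex.isStrictlyLE_iff _ _).2 fun i hi => h₂ i (Or.inr (by omega))

/-- Every morphism of strictly perfect complexes in the derived category is a roof. -/
theorem exists_roof (hX : PerfAux.HasResolutionProperty X) (E F : CochainComplex X.Modules ℤ)
    (hE : DCoh.IsStrictlyPerfect E) (hF : DCoh.IsStrictlyPerfect F) (α : DCoh.toD X E ⟶ DCoh.toD X F) :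
    ∃ (G : CochainComplex X.Modules ℤ) (g : G ⟶ E) (h : G ⟶ F), DCoh.IsStrictlyPerfect G ∧ QuasiIso g ∧
      DerivedCategory.Q.map g ≫ α = DerivedCategory.Q.map h := by
  obtain ⟨a, b, ⟨hEa, hEb⟩, hFa, hFb⟩ := bounds hE hF
  haveI := hEa; haveI := hEb; haveI := hFa; haveI := hFb
  obtain ⟨L, s, g, hLa, -, hLq, hs, h⟩ := exists_qcoh_roof
    (fun U V hU hV => H14ResProp.AffineDiag.isAffineOpen_inf hX hU hV) E F
    (fun i => H8Props.FinLocFree.isQCoh_of_isFinLocFree _ (hE.2 i))
    (fun i => H8Props.FinLocFree.isQCoh_of_isFinLocFree _ (hF.2 i)) a b α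
  haveI := hLa
  haveI := hs
  haveI : IsIso (DerivedCategory.Q.map s) := isIso_Q_map _ hs
  have hL : DCoh.IsPerfect (DCoh.toD X L) :=
    isPerfect_of_iso (asIso (DerivedCategory.Q.map s)).symm (isPerfect_toD hE)
  obtain ⟨G, φ, hG, hφ⟩ := exists_strictlyPerfect_qis hX L hLq a (fun n hn => L.isZero_of_isStrictlyGE a n hn) hL
  haveI := hφ
  refine ⟨G, φ ≫ s, φ ≫ g, hG, inferInstance, ?_⟩
  rw [Functor.map_comp, Category.assoc, h, ← Functor.map_comp]

/-- Equal images in the derived category become homotopic after a strictly perfect quasi-isomorphism. -/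
theorem exists_homotopy_after (hX : PerfAux.HasResolutionProperty X) (E F : CochainComplex X.Modules ℤ)
    (hE : DCoh.IsStrictlyPerfect E) (hF : DCoh.IsStrictlyPerfect F) (α β : E ⟶ F)
    (hαβ : DerivedCategory.Q.map α = DerivedCategory.Q.map β) :
    ∃ (G : CochainComplex X.Modules ℤ) (γ : G ⟶ E), DCoh.IsStrictlyPerfect G ∧ QuasiIso γ ∧
      Nonempty (Homotopy (γ ≫ α) (γ ≫ β)) := by
  let d := α - β
  have hd : DerivedCategory.Q.map d = 0 := by simp [d, hαβ]
  let M := mappingCocone d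
  have hM : DCoh.IsStrictlyPerfect M :=
    isStrictlyPerfect_shift (isStrictlyPerfect_mappingCone d hE hF) (-1)
  let p : M ⟶ E := mappingCocone.fst d
  obtain ⟨σ, hσ⟩ := Triangle.coyoneda_exact₂ _ (DerivedCategory.mappingCocone_triangle_distinguished d)
    (𝟙 (DCoh.toD X E)) ((Category.id_comp _).trans hd)
  replace hσ : 𝟙 (DCoh.toD X E) = σ ≫ DerivedCategory.Q.map p := hσ
  obtain ⟨G, g, h, hG, hg, hgh⟩ := exists_roof hX E M hE hM σ
  have hQ : DerivedCategory.Q.map (h ≫ p) = DerivedCategory.Q.map g := by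
    rw [Functor.map_comp, ← hgh, Category.assoc, ← hσ]
    exact Category.comp_id _
  haveI := hg
  haveI : IsIso (DerivedCategory.Q.map g) := isIso_Q_map _ hg
  have hq : QuasiIso (h ≫ p) := by
    rw [← DerivedCategory.isIso_Q_map_iff_quasiIso, hQ]
    infer_instance
  let z : Cochain M F (-1) :=
    -mappingCocone.descCochain d (0 : Cochain E F (-1)) (Cochain.ofHom (𝟙 F)) (by omega)
  have H : Homotopy (p ≫ d) 0 := (Cochain.equivHomotopy _ _).symm ⟨z, by
    have e := mappingCocone.δ_descCochain d (0 : Cochain E F (-1)) (Cochain.ofHom (𝟙 F))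
      (show (-1 : ℤ) + 1 = 0 by omega) 1 (by omega)
    simp only [z, δ_neg, e]
    simp [p]⟩
  refine ⟨G, h ≫ p, hG, hq, ⟨Homotopy.equivSubZero.symm ((Homotopy.ofEq ?_).trans
    ((H.compLeft h).trans (Homotopy.ofEq comp_zero)))⟩⟩
  simp [d, Preadditive.comp_sub, Category.assoc]

end Groth.Agent.H16Derived.QRep
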