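import Groth.Agent.H16Derived.QRep.Gen
import Mathlib.CategoryTheory.Functor.OfSequence

/-!
# Iterating the step: finite and infinite resolutions from above
-/

set_option autoImplicit false
set_option linter.style.haveILetI false
set_option backward.isDefEq.respectTransparency false

universe v u

open CategoryTheory CategoryTheory.Limits HomologicalComplex CochainComplex

namespace Groth.Agent.H16Derived.QRep

variable {A : Type u} [Category.{v} A] [Abelian A]

/-- The top cohomology of every cone of a stage is covered by an object of `P` through cycles. -/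
def CanStep (P : A → Prop) (F : CochainComplex A ℤ) (b₀ : ℤ) : Prop :=
  ∀ (E : CochainComplex A ℤ) (φ : E ⟶ F) (n : ℤ), n ≤ b₀ → IsSt P φ (n + 1) → E.IsStrictlyLE b₀ →
    ∃ (L : A) (ℓ : L ⟶ (mappingCone φ).cycles n), P L ∧ Epi (ℓ ≫ (mappingCone φ).homologyπ n)

variable (P : A → Prop) (F : CochainComplex A ℤ) (b₀ : ℤ)

/-- The stage after `k` steps. -/
structure Stg (k : ℕ) where
  E : CochainComplex A ℤ
  φ : E ⟶ F
  st : IsSt P φ (b₀ + 1 - k)
  le : E.IsStrictlyLE b₀

variable {P F b₀}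

theorem nonempty_stg_zero (h0 : ∀ Z : A, IsZero Z → P Z) (hF : ∀ i, b₀ < i → IsZero (F.homology i)) :
    Nonempty (Stg P F b₀ 0) := by
  obtain ⟨E, hE⟩ := HasZeroObject.zero (C := CochainComplex A ℤ)
  have hX : ∀ i, IsZero (E.X i) := fun i =>
    (HomologicalComplex.eval A (ComplexShape.up ℤ) i).map_isZero hE
  have hH : ∀ i, b₀ < i → IsZero (F.homology i) := hF
  refine ⟨⟨E, 0, ⟨(CochainComplex.isStrictlyGE_iff _ _).2 fun i _ => hX i, fun i => h0 _ (hX i), fun i hi => ?_, ?_⟩,
    (CochainComplex.isStrictlyLE_iff _ _).2 fun i _ => hX i⟩⟩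
  · exact IsZero.isIso ((HomologicalComplex.homologyFunctor A _ i).map_isZero hE) (hF i (by omega)) _
  · exact ⟨fun {Z} g g' _ => (hF _ (by omega)).eq_of_src g g'⟩

theorem exists_next (hiso : ∀ {X Y : A} (_ : X ≅ Y), P X → P Y) (hF : CanStep P F b₀) {k : ℕ} (s : Stg P F b₀ k) :
    ∃ (s' : Stg P F b₀ (k + 1)) (u : s.E ⟶ s'.E), u ≫ s'.φ = s.φ ∧ ∀ i, b₀ - k < i → IsIso (u.f i) := by
  haveI := s.le
  have hst : IsSt P s.φ (b₀ - k + 1) := by
    rw [show b₀ - (k : ℤ) + 1 = b₀ + 1 - k by omega]; exact s.st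
  obtain ⟨L, ℓ, hL, hℓ⟩ := hF s.E s.φ (b₀ - k) (by omega) hst s.le
  haveI := hℓ
  obtain ⟨E', u, φ', h1, h2, h3, h4⟩ := exists_step P hiso s.φ (b₀ - k) hst b₀ (by omega) hL ℓ
  exact ⟨⟨E', φ', by rw [show b₀ + 1 - ((k + 1 : ℕ) : ℤ) = b₀ - k by omega]; exact h1, h2⟩, u, h3, h4⟩

/-- All finite stages exist. -/
theorem nonempty_stg (hiso : ∀ {X Y : A} (_ : X ≅ Y), P X → P Y) (h0 : ∀ Z : A, IsZero Z → P Z)
    (hF : ∀ i, b₀ < i → IsZero (F.homology i)) (hs : CanStep P F b₀) : ∀ k : ℕ, Nonempty (Stg P F b₀ k)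
  | 0 => nonempty_stg_zero h0 hF
  | k + 1 => by
    obtain ⟨s⟩ := nonempty_stg hiso h0 hF hs k
    exact ⟨(exists_next hiso hs s).choose⟩

theorem exists_stage (hiso : ∀ {X Y : A} (_ : X ≅ Y), P X → P Y) (h0 : ∀ Z : A, IsZero Z → P Z)
    (hF : ∀ i, b₀ < i → IsZero (F.homology i)) (hs : CanStep P F b₀) (m : ℤ) (hm : m ≤ b₀ + 1) :
    ∃ (E : CochainComplex A ℤ) (φ : E ⟶ F), IsSt P φ m ∧ E.IsStrictlyLE b₀ := by
  obtain ⟨s⟩ := nonempty_stg hiso h0 hF hs (b₀ + 1 - m).toNat
  refine ⟨s.E, s.φ, ?_, s.le⟩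
  have h := s.st
  rwa [show b₀ + 1 - ((b₀ + 1 - m).toNat : ℤ) = m by omega] at h

/-- The infinite resolution. -/
theorem exists_resolution (hiso : ∀ {X Y : A} (_ : X ≅ Y), P X → P Y) (h0 : ∀ Z : A, IsZero Z → P Z)
    (hF : ∀ i, b₀ < i → IsZero (F.homology i)) (hs : CanStep P F b₀) :
    ∃ (E : CochainComplex A ℤ) (φ : E ⟶ F), E.IsStrictlyLE b₀ ∧ (∀ i, P (E.X i)) ∧ QuasiIso φ := by
  choose next u hu hu' using fun (k : ℕ) (s : Stg P F b₀ k) => exists_next hiso hs s
  let S : ∀ k : ℕ, Stg P F b₀ k := Nat.rec (nonempty_stg_zero h0 hF).some fun k s => next k s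
  let G : ℕ ⥤ CochainComplex A ℤ := Functor.ofSequence (X := fun k => (S k).E) fun k => u k (S k)
  let T : ∀ {k l : ℕ}, k ≤ l → ((S k).E ⟶ (S l).E) := fun h => G.map (homOfLE h)
  have hTφ : ∀ (l k : ℕ) (h : k ≤ l), T h ≫ (S l).φ = (S k).φ := by
    intro l
    induction l with
    | zero =>
      intro k h
      obtain rfl : k = 0 := by omega
      exact (congrArg (· ≫ (S 0).φ) (G.map_id 0)).trans (Category.id_comp _)
    | succ l ih =>
      intro k h
      rcases Nat.lt_or_ge l k with h' | h'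
      · obtain rfl : k = l + 1 := by omega
        exact (congrArg (· ≫ (S (l + 1)).φ) (G.map_id (l + 1))).trans (Category.id_comp _)
      · have e : T h = T h' ≫ u l (S l) := by
          show G.map _ = G.map _ ≫ _
          rw [← homOfLE_comp h' (Nat.le_succ l), G.map_comp, Functor.ofSequence_map_homOfLE_succ]
        rw [e, Category.assoc]
        exact (congrArg (T h' ≫ ·) (hu l (S l))).trans (ih k h')
  have hTiso : ∀ (l k : ℕ) (h : k ≤ l) (i : ℤ), b₀ - k < i → IsIso ((T h).f i) := by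
    intro l
    induction l with
    | zero =>
      intro k h i _
      obtain rfl : k = 0 := by omega
      rw [show T h = 𝟙 _ from G.map_id 0]
      infer_instance
    | succ l ih =>
      intro k h i hi
      rcases Nat.lt_or_ge l k with h' | h'
      · obtain rfl : k = l + 1 := by omega
        rw [show T h = 𝟙 _ from G.map_id (l + 1)]
        infer_instance
      · have e : T h = T h' ≫ u l (S l) := by
          show G.map _ = G.map _ ≫ _
          rw [← homOfLE_comp h' (Nat.le_succ l), G.map_comp, Functor.ofSequence_map_homOfLE_succ]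
        haveI := ih k h' i hi
        haveI := hu' l (S l) i (by omega)
        rw [e, HomologicalComplex.comp_f]
        infer_instance
  have hTT : ∀ {p q r : ℕ} (h : p ≤ q) (h' : q ≤ r), T h ≫ T h' = T (h.trans h') := fun h h' => by
    show G.map _ ≫ G.map _ = G.map _
    rw [← G.map_comp, homOfLE_comp]
  let j : ℤ → ℕ := fun i => (b₀ + 1 - i).toNat
  have hj : ∀ i, b₀ - (j i : ℕ) < i := fun i => by simp only [j]; omega
  have hj' : ∀ i, j (i + 1) ≤ j i := fun i => by simp only [j]; omega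
  haveI hTj : ∀ i, IsIso ((T (hj' i)).f (i + 1)) := fun i => hTiso _ _ _ _ (by have := hj (i + 1); omega)
  let X : ℤ → A := fun i => (S (j i)).E.X i
  let d : ∀ i, X i ⟶ X (i + 1) := fun i => (S (j i)).E.d i (i + 1) ≫ inv ((T (hj' i)).f (i + 1))
  -- the comparison with a finite stage
  let ψ : ∀ (i : ℤ) (l : ℕ), j i ≤ l → (X i ⟶ (S l).E.X i) := fun i l h => (T h).f i
  have hψ : ∀ (i : ℤ) (l : ℕ) (h : j i ≤ l), d i ≫ ψ (i + 1) l ((hj' i).trans h) = ψ i l h ≫ (S l).E.d i (i + 1) := by
    intro i l h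
    simp only [d, ψ, ← hTT (hj' i) h, HomologicalComplex.comp_f, Category.assoc, IsIso.inv_hom_id_assoc]
    exact ((T h).comm i (i + 1)).symm
  have dd : ∀ i, d i ≫ d (i + 1) = 0 := fun i => by
    haveI := hTiso (j i) (j (i + 1 + 1)) ((hj' (i + 1)).trans (hj' i)) (i + 1 + 1) (by have := hj (i + 1 + 1); omega)
    rw [← cancel_mono (ψ (i + 1 + 1) (j i) ((hj' (i + 1)).trans (hj' i))), Category.assoc,
      hψ (i + 1) (j i) (hj' i), ← Category.assoc, hψ i (j i) le_rfl, Category.assoc,
      HomologicalComplex.d_comp_d, comp_zero, zero_comp]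
  let E : CochainComplex A ℤ := CochainComplex.of X d dd
  let φ : E ⟶ F :=
    { f := fun i => (S (j i)).φ.f i
      comm' := fun i k hik => by
        obtain rfl : i + 1 = k := hik
        have e : E.d i (i + 1) = d i := CochainComplex.of_d X d i
        rw [e]
        have hφ' := congrArg (fun t : _ ⟶ F => t.f (i + 1)) (hTφ (j i) (j (i + 1)) (hj' i))
        show (S (j i)).φ.f i ≫ F.d i (i + 1) = ((S (j i)).E.d i (i + 1) ≫ inv ((T (hj' i)).f (i + 1))) ≫ (S (j (i + 1))).φ.f (i + 1)
        rw [← hφ', HomologicalComplex.comp_f, Category.assoc, IsIso.inv_hom_id_assoc, (S (j i)).φ.comm] }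
  refine ⟨E, φ, ?_, fun i => (S (j i)).st.mem i, ⟨fun m => ?_⟩⟩
  · rw [CochainComplex.isStrictlyLE_iff]
    intro i hi
    haveI := (S (j i)).le
    exact (S (j i)).E.isZero_of_isStrictlyLE b₀ i hi
  · let l := (b₀ + 2 - m).toNat
    have hl : ∀ i, m - 1 ≤ i → j i ≤ l := fun i hi => by simp only [j, l]; omega
    haveI hψi : ∀ i (hi : m - 1 ≤ i), IsIso (ψ i l (hl i hi)) := fun i hi => hTiso _ _ _ _ (hj i)
    -- the map from the finite stage
    let α : ∀ i, (S l).E.X i ⟶ X i := fun i =>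
      if hi : m - 1 ≤ i then haveI := hψi i hi; inv (ψ i l (hl i hi)) else 0
    have hz : ∀ i, i < m - 1 → IsZero ((S l).E.X i) := fun i hi => by
      rcases lt_or_ge b₀ i with hb | hb
      · haveI := (S l).le
        exact (S l).E.isZero_of_isStrictlyLE b₀ i hb
      · haveI := (S l).st.ge
        exact (S l).E.isZero_of_isStrictlyGE (b₀ + 1 - l) i (by simp only [l]; omega)
    let θ : (S l).E ⟶ E :=
      { f := α
        comm' := fun i k hik => by
          obtain rfl : i + 1 = k := hik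
          have e : E.d i (i + 1) = d i := CochainComplex.of_d X d i
          rw [e]
          by_cases hi : m - 1 ≤ i
          · simp only [α, dif_pos hi, dif_pos (show m - 1 ≤ i + 1 by omega)]
            haveI := hψi i hi
            haveI := hψi (i + 1) (by omega)
            rw [IsIso.inv_comp_eq, ← Category.assoc, IsIso.eq_comp_inv]
            exact hψ i l (hl i hi)
          · exact (hz i (by omega)).eq_of_src _ _ }
    have hθ : θ ≫ φ = (S l).φ := HomologicalComplex.hom_ext _ _ fun i => by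
      by_cases hi : m - 1 ≤ i
      · show α i ≫ (S (j i)).φ.f i = _
        simp only [α, dif_pos hi]
        haveI := hψi i hi
        rw [IsIso.inv_comp_eq]
        exact (congrArg (fun t : _ ⟶ F => t.f i) (hTφ l (j i) (hl i hi))).symm
      · exact (hz i (by omega)).eq_of_src _ _
    have hα : ∀ i, m - 1 ≤ i → IsIso (θ.f i) := fun i hi => by
      show IsIso (α i)
      simp only [α, dif_pos hi]
      haveI := hψi i hi
      infer_instance
    haveI : QuasiIsoAt θ m := by
      rw [quasiIsoAt_iff' θ (m - 1) m (m + 1) (by simp) (by simp)]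
      let ψ' := (HomologicalComplex.shortComplexFunctor' A (ComplexShape.up ℤ) (m - 1) m (m + 1)).map θ
      haveI : IsIso ψ'.τ₁ := hα _ le_rfl
      haveI : IsIso ψ'.τ₂ := hα _ (by omega)
      haveI : IsIso ψ'.τ₃ := hα _ (by omega)
      exact ShortComplex.quasiIso_of_epi_of_isIso_of_mono ψ'
    haveI : QuasiIsoAt (θ ≫ φ) m := by
      rw [quasiIsoAt_iff_isIso_homologyMap, hθ]
      exact (S l).st.iso m (by simp only [l]; omega)
    exact quasiIsoAt_of_comp_left θ φ m

end Groth.Agent.H16Derived.QRep
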